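import Mathlib
import Cfsg.Prelude.Def_FusionSystem
import Cfsg.Prelude.Def_Classical
import Cfsg.Prelude.Def_CaseTheorems

/-!
The 2-fusion systems of `L_n(q)` and `U_n(q)`, `q` odd, `2 ≤ n ≤ 5`: the notions.
See `stubs/Cfsg/Agent/F5/PLAN.md`.
-/

set_option autoImplicit false
set_option linter.unusedSectionVars false

namespace Cfsg.Agent.F5

open Subgroup

section Fusion

variable {P G H : Type*} [Group P] [Group G] [Group H]

/-- One element of `G` conjugates the first entry of every pair of `R` to the second, read through `α`. -/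
def Cj (α : P →* G) (R : Set (P × P)) : Prop := ∃ g : G, ∀ p ∈ R, α p.2 = g * α p.1 * g⁻¹

/-- `G` and `H` induce the same fusion on `P`. -/
def Same (α : P →* G) (β : P →* H) : Prop := ∀ R : Set (P × P), Cj α R ↔ Cj β R

/-- The image of `α` is a Sylow 2-subgroup. -/
def Sy (α : P →* G) : Prop := IsPGroup 2 α.range ∧ Odd α.range.index

/-- `G` and `H` have isomorphic 2-fusion systems. -/
def FE (G H : Type*) [Group G] [Group H] : Prop :=
  ∃ (S : Sylow 2 G) (β : (S : Subgroup G) →* H), Sy β ∧ Same (S : Subgroup G).subtype β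

/-- An elementary abelian subgroup of order eight with conjugate involutions. -/
def PE (G : Type*) [Group G] : Prop :=
  ∃ E : Subgroup G, IsElementaryAbelian 2 E ∧ Nat.card E = 8 ∧
    ∀ u ∈ E, ∀ v ∈ E, u ≠ 1 → v ≠ 1 → IsConj u v

/-- An element of order four in the centre of a Sylow 2-subgroup. -/
def ZC (G : Type*) [Group G] : Prop :=
  ∃ c : G, orderOf c = 4 ∧ Odd (centralizer ({c} : Set G)).index

/-- The centralizer of a 2-central involution has a subgroup of index two. -/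
def FC (G : Type*) [Group G] : Prop :=
  ∃ z : G, orderOf z = 2 ∧ Odd (centralizer ({z} : Set G)).index ∧
    ∃ L : Subgroup (centralizer ({z} : Set G)), L.index = 2

/-- The quaternion group of order eight. -/
abbrev Q8 : Type := QuaternionGroup 2

/-- Generators of `Q8`. -/
abbrev qa : Q8 := QuaternionGroup.a 1

/-- Generators of `Q8`. -/
abbrev qb : Q8 := QuaternionGroup.xa 0

/-- A central product of two quaternion groups; on each factor an automorphism of order three that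
centralizes the other factor is induced. -/
def QC (G : Type*) [Group G] : Prop :=
  ∃ γ : Q8 × Q8 →* G, γ (qa * qa, qa * qa) = 1 ∧ γ (qa * qa, 1) ≠ 1 ∧
    Cj γ {((qa, 1), (qb, 1)), ((qb, 1), (qa * qb, 1)), ((1, qa), (1, qa)), ((1, qb), (1, qb))} ∧
    Cj γ {((1, qa), (1, qb)), ((1, qb), (1, qa * qb)), ((qa, 1), (qa, 1)), ((qb, 1), (qb, 1))}

end Fusion

section Lin

variable {Γ ι L R : Type*} [Group Γ] [Fintype ι] [DecidableEq ι] [Field L] [CommRing R]

/-- The intertwining matrices. -/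
def Hm (a b : Γ →* Matrix ι ι L) : Submodule L (Matrix ι ι L) where
  carrier := {X | ∀ γ, X * a γ = b γ * X}
  add_mem' := fun {X Y} hX hY γ => by rw [add_mul, mul_add, hX, hY]
  zero_mem' := fun γ => by rw [zero_mul, mul_zero]
  smul_mem' := fun c X hX γ => by rw [smul_mul_assoc, hX, mul_smul_comm]

theorem mem_Hm {a b : Γ →* Matrix ι ι L} {X : Matrix ι ι L} :
    X ∈ Hm a b ↔ ∀ γ, X * a γ = b γ * X := Iff.rfl

/-- Change of the coefficient ring of a matrix representation. -/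
def mp (f : R →+* L) (a : Γ →* Matrix ι ι R) : Γ →* Matrix ι ι L :=
  (f.mapMatrix : Matrix ι ι R →+* Matrix ι ι L).toMonoidHom.comp a

@[simp] theorem mp_apply (f : R →+* L) (a : Γ →* Matrix ι ι R) (γ : Γ) : mp f a γ = (a γ).map f := rfl

end Lin

/-- Monomial matrices: `e_i ↦ ψ (d i) e_(s i)`. -/
@[ext] structure Mon (n N : ℕ) where
  /-- the exponents of the non-zero entries, by column -/
  d : Fin n → ZMod N
  /-- the permutation -/
  s : Equiv.Perm (Fin n)

namespace Mon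

variable {n N : ℕ}

instance : Group (Mon n N) where
  mul a b := ⟨fun i => b.d i + a.d (b.s i), a.s * b.s⟩
  one := ⟨0, 1⟩
  inv a := ⟨fun i => -a.d (a.s⁻¹ i), a.s⁻¹⟩
  mul_assoc a b c := Mon.ext (funext fun i => (add_assoc (c.d i) (b.d (c.s i)) _).symm)
    (mul_assoc a.s b.s c.s)
  one_mul a := Mon.ext (funext fun i => add_zero (a.d i)) (one_mul a.s)
  mul_one a := Mon.ext (funext fun i => zero_add (a.d i)) (mul_one a.s)
  inv_mul_cancel a := Mon.ext (funext fun i => by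
    show a.d i + -a.d (a.s⁻¹ (a.s i)) = 0
    simp) (inv_mul_cancel a.s)

@[simp] theorem mul_d (a b : Mon n N) (i : Fin n) : (a * b).d i = b.d i + a.d (b.s i) := rfl
@[simp] theorem mul_s (a b : Mon n N) : (a * b).s = a.s * b.s := rfl
@[simp] theorem one_d (i : Fin n) : (1 : Mon n N).d i = 0 := rfl
@[simp] theorem one_s : (1 : Mon n N).s = 1 := rfl
@[simp] theorem inv_d (a : Mon n N) (i : Fin n) : a⁻¹.d i = -a.d (a.s⁻¹ i) := rfl
@[simp] theorem inv_s (a : Mon n N) : a⁻¹.s = a.s⁻¹ := rfl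

instance [NeZero N] : Finite (Mon n N) :=
  Finite.of_injective (fun m : Mon n N => (m.d, m.s)) fun _ _ h =>
    Mon.ext (congrArg Prod.fst h) (congrArg Prod.snd h)

end Mon

section Model

variable {n N : ℕ}

/-- The matrix of a monomial element. -/
def monM {R : Type*} [CommRing R] (ψ : AddChar (ZMod N) R) : Mon n N →* Matrix (Fin n) (Fin n) R where
  toFun m := Matrix.of fun j i => if j = m.s i then ψ (m.d i) else 0
  map_one' := by
    ext j i
    simp [Matrix.one_apply]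
  map_mul' a b := by
    ext j i
    simp only [Matrix.mul_apply, Matrix.of_apply, Mon.mul_s, Mon.mul_d, Equiv.Perm.mul_apply, mul_ite,
      mul_zero, Finset.sum_ite_eq', Finset.mem_univ, if_true, AddChar.map_add_eq_mul, ite_mul, zero_mul]
    split_ifs
    · exact mul_comm _ _
    · rfl

theorem monM_apply {R : Type*} [CommRing R] (ψ : AddChar (ZMod N) R) (m : Mon n N) (j i : Fin n) :
    monM ψ m j i = if j = m.s i then ψ (m.d i) else 0 := rfl

/-- The invertible matrix of a monomial element. -/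
def mon {R : Type*} [CommRing R] (ψ : AddChar (ZMod N) R) : Mon n N →* GL (Fin n) R :=
  (monM ψ).toHomUnits

@[simp] theorem coe_mon {R : Type*} [CommRing R] (ψ : AddChar (ZMod N) R) (m : Mon n N) :
    (mon ψ m : Matrix (Fin n) (Fin n) R) = monM ψ m := rfl

/-- The map `0 ↔ 1, 2 ↔ 3, …`. -/
def piF (n : ℕ) (i : Fin n) : Fin n :=
  if i.1 % 2 = 1 then ⟨i.1 - 1, by omega⟩ else if h : i.1 + 1 < n then ⟨i.1 + 1, h⟩ else i

theorem piF_val (i : Fin n) :
    (piF n i).1 = if i.1 % 2 = 1 then i.1 - 1 else if i.1 + 1 < n then i.1 + 1 else i.1 := by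
  unfold piF
  split_ifs <;> rfl

theorem piF_invol (n : ℕ) : Function.Involutive (piF n) := fun i => Fin.ext (by
  have := i.2
  rw [piF_val, piF_val]
  split_ifs <;> omega)

/-- The involution `(0 1)(2 3) …`. -/
def pi (n : ℕ) : Equiv.Perm (Fin n) := (piF_invol n).toPerm

theorem pi_apply (i : Fin n) : pi n i = piF n i := rfl

/-- The permutation of the twisted Frobenius map: trivial in type I (`b = true`). -/
def pb (n : ℕ) (b : Bool) : Equiv.Perm (Fin n) := if b then 1 else pi n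

/-- The exponent of `-1`. -/
def hf (M : ℕ) : ZMod (2 ^ M) := 2 ^ (M - 1)

theorem hf_add_hf (M : ℕ) : hf M + hf M = 0 := by
  rcases M with _ | M
  · exact Subsingleton.elim (α := ZMod 1) _ _
  · rw [hf, Nat.add_sub_cancel, ← two_mul, ← pow_succ']
    exact_mod_cast ZMod.natCast_self (2 ^ (M + 1))

/-- The residue of `ε q` modulo `2 ^ M`, the 2-part of `q² - 1`. -/
def ee (M : ℕ) (b : Bool) : ZMod (2 ^ M) := (if b then 1 else -1) + hf M

/-- The exponent of the determinant. -/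
def dg {M : ℕ} (m : Mon n (2 ^ M)) : ZMod (2 ^ M) :=
  ∑ i, m.d i + if Equiv.Perm.sign m.s = 1 then 0 else hf M

theorem dg_mul {M : ℕ} (a b : Mon n (2 ^ M)) : dg (a * b) = dg a + dg b := by
  have h := hf_add_hf M
  simp only [dg, Mon.mul_d, Mon.mul_s, Finset.sum_add_distrib, Equiv.sum_comp b.s a.d, map_mul]
  rcases Int.units_eq_one_or (Equiv.Perm.sign a.s) with h1 | h1 <;>
    rcases Int.units_eq_one_or (Equiv.Perm.sign b.s) with h2 | h2 <;> simp [h1, h2]
  · ring
  · ring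
  · ring
  · linear_combination -h

theorem dg_one {M : ℕ} : dg (1 : Mon n (2 ^ M)) = 0 := by simp [dg]

theorem pb_comm {b : Bool} {s : Equiv.Perm (Fin n)} (h : s * pi n = pi n * s) (i : Fin n) :
    s (pb n b i) = pb n b (s i) := by
  cases b
  · exact DFunLike.congr_fun h i
  · rfl

/-- The model of the Sylow 2-subgroups of `SL_n(q)` and `SU_n(q)`. -/
def T (n M : ℕ) (b : Bool) : Subgroup (Mon n (2 ^ M)) where
  carrier := {m | m.s * pi n = pi n * m.s ∧ (∀ i, m.d (pb n b i) = ee M b * m.d i) ∧ dg m = 0}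
  one_mem' := ⟨by simp, by simp, dg_one⟩
  mul_mem' := fun {x y} hx hy => ⟨by rw [Mon.mul_s, mul_assoc, hy.1, ← mul_assoc, hx.1, mul_assoc],
    fun i => by rw [Mon.mul_d, Mon.mul_d, hy.2.1, pb_comm hy.1, hx.2.1, mul_add],
    by rw [dg_mul, hx.2.2, hy.2.2, add_zero]⟩
  inv_mem' := fun {x} hx => by
    have h : x.s⁻¹ * pi n = pi n * x.s⁻¹ := (show Commute x.s (pi n) from hx.1).inv_left
    refine ⟨h, fun i => by rw [Mon.inv_d, Mon.inv_d, pb_comm h, hx.2.1, mul_neg], ?_⟩
    have := dg_mul x⁻¹ x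
    rwa [inv_mul_cancel, dg_one, hx.2.2, add_zero, eq_comm] at this

theorem mem_T {M : ℕ} {b : Bool} {m : Mon n (2 ^ M)} : m ∈ T n M b ↔
    m.s * pi n = pi n * m.s ∧ (∀ i, m.d (pb n b i) = ee M b * m.d i) ∧ dg m = 0 := Iff.rfl

/-- Scalar elements. -/
def Sc (m : Mon n N) : Prop := m.s = 1 ∧ ∀ i j, m.d i = m.d j

/-- The exponent of the order of `T n M b`. -/
def exT (n M : ℕ) (b : Bool) : ℕ :=
  (if b then (M - 1) * (n - 1) else M * (n / 2) + n % 2 - 1) + if n ≤ 3 then 1 else 3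

/-- The exponent of the number of scalar elements of `T n M b`. -/
def exZ (n : ℕ) (b : Bool) : ℕ := if n % 2 = 1 then 0 else if n = 4 ∧ b = true then 2 else 1

variable {K : Type} [Field K]

/-- The elements of determinant one. -/
abbrev G0 (G : Subgroup (GL (Fin n) K)) : Subgroup (GL (Fin n) K) :=
  G ⊓ (Matrix.GeneralLinearGroup.det : GL (Fin n) K →* Kˣ).ker

/-- The projective group. -/
abbrev PS (G : Subgroup (GL (Fin n) K)) : Type := G0 G ⧸ center (G0 G)

/-- A form of `GL_n(q)` or `GU_n(q)` inside `GL_n(q²)` that contains the monomial model. -/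
structure Tw (n M : ℕ) (b : Bool) (G : Subgroup (GL (Fin n) K)) (Λ : Subgroup Kˣ)
    (ψ : AddChar (ZMod (2 ^ M)) K) : Prop where
  hn : 2 ≤ n ∧ n ≤ 5
  hM : 3 ≤ M
  fin : Finite K
  two : (2 : K) ≠ 0
  inj : Function.Injective ψ
  ctl : ∀ (Γ : Type) [Group Γ] [Finite Γ], IsPGroup 2 Γ → ∀ a a' : Γ →* GL (Fin n) K,
    (∀ γ, a γ ∈ G) → (∀ γ, a' γ ∈ G) → (∃ g : GL (Fin n) K, ∀ γ, a' γ = g * a γ * g⁻¹) →
    ∃ g ∈ G, ∀ γ, a' γ = g * a γ * g⁻¹
  mem : ∀ m ∈ T n M b, mon ψ m ∈ G0 G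
  card : padicValNat 2 (Nat.card (G0 G)) = exT n M b
  det : ∀ g ∈ G, Matrix.GeneralLinearGroup.det g ∈ Λ
  scal : ∀ l ∈ Λ, ∀ g : GL (Fin n) K, (g : Matrix (Fin n) (Fin n) K) = (l : K) • 1 → g ∈ G
  diag : ∀ l ∈ Λ, ∀ i, pb n b i = i → ∀ g : GL (Fin n) K,
    (g : Matrix (Fin n) (Fin n) K) = Matrix.diagonal (Function.update 1 i (l : K)) → g ∈ G
  cen : ∀ g : G0 G, g ∈ center (G0 G) →
    ∃ l : K, ((g : GL (Fin n) K) : Matrix (Fin n) (Fin n) K) = l • 1

/-- The model inside the special group. -/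
def Tw.al {M : ℕ} {b : Bool} {G : Subgroup (GL (Fin n) K)} {Λ : Subgroup Kˣ}
    {ψ : AddChar (ZMod (2 ^ M)) K} (h : Tw n M b G Λ ψ) : T n M b →* G0 G :=
  ((mon ψ).comp (T n M b).subtype).codRestrict _ fun m => h.mem m m.2

@[simp] theorem Tw.coe_al {M : ℕ} {b : Bool} {G : Subgroup (GL (Fin n) K)} {Λ : Subgroup Kˣ}
    {ψ : AddChar (ZMod (2 ^ M)) K} (h : Tw n M b G Λ ψ) (m : T n M b) :
    (h.al m : GL (Fin n) K) = mon ψ m := rfl

/-- The model inside the projective group. -/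
def Tw.ab {M : ℕ} {b : Bool} {G : Subgroup (GL (Fin n) K)} {Λ : Subgroup Kˣ}
    {ψ : AddChar (ZMod (2 ^ M)) K} (h : Tw n M b G Λ ψ) : T n M b →* PS G :=
  (QuotientGroup.mk' (center (G0 G))).comp h.al

theorem Tw.ab_apply {M : ℕ} {b : Bool} {G : Subgroup (GL (Fin n) K)} {Λ : Subgroup Kˣ}
    {ψ : AddChar (ZMod (2 ^ M)) K} (h : Tw n M b G Λ ψ) (m : T n M b) :
    h.ab m = QuotientGroup.mk (h.al m) := rfl

/-- `X` is `L_n(q)` or `U_n(q)` with `2 ^ M` the 2-part of `q² - 1`; `b` says `4 ∣ q - ε`. -/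
def IsTw (n M : ℕ) (b : Bool) (X : Type*) [Group X] : Prop :=
  ∃ (K : Type) (_ : Field K) (G : Subgroup (GL (Fin n) K)) (Λ : Subgroup Kˣ)
    (ψ : AddChar (ZMod (2 ^ M)) K), Tw n M b G Λ ψ ∧ Nonempty (X ≃* PS G)

/-- `α` maps the model onto a Sylow 2-subgroup, with the scalars as kernel. -/
def Rl (n M : ℕ) (b : Bool) {X : Type*} [Group X] (α : T n M b →* X) : Prop :=
  Sy α ∧ ∀ m, α m = 1 ↔ Sc (m : Mon n (2 ^ M))

end Model

end Cfsg.Agent.F5
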