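import Mathlib
import Cfsg.Agent.F5.Defs

/-! Basic properties of `Same`, `Sy`, `FE` (see stubs/Cfsg/Agent/F5/PLAN.md) -/

set_option autoImplicit false
set_option linter.unusedSectionVars false

namespace Cfsg.Agent.F5

open Subgroup

variable {P P' G H X : Type*} [Group P] [Group P'] [Group G] [Group H] [Group X]
  {α : P →* G} {β : P →* H}

namespace Fe

theorem cj_closure (α : P →* G) (R : Set (P × P)) : Cj α (closure R : Subgroup (P × P)) ↔ Cj α R := by
  refine exists_congr fun g => ⟨fun h p hp => h p (subset_closure hp), fun h p hp => ?_⟩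
  have : closure R ≤ (α.comp (MonoidHom.snd P P)).eqLocus
      ((MulAut.conj g).toMonoidHom.comp (α.comp (MonoidHom.fst P P))) := (closure_le _).2 h
  exact this hp

theorem cj_comp (α : P →* G) (f : P' →* P) (R : Set (P' × P')) : Cj (α.comp f) R ↔ Cj α (Prod.map f f '' R) :=
  exists_congr fun _ => (Set.forall_mem_image (f := Prod.map f f) (p := fun p => α p.2 = _ * α p.1 * _)).symm

theorem cj_single (α : P →* G) (x y : P) : Cj α {(x, y)} ↔ IsConj (α x) (α y) := by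
  rw [isConj_iff]
  exact exists_congr fun g => by simp [eq_comm]

theorem sy_of_sylow [Finite G] {S : Sylow 2 G} (h : (S : Subgroup G) = α.range) : Sy α := by
  rw [Sy, ← h]
  exact ⟨S.isPGroup', Nat.not_even_iff_odd.1 fun e => S.not_dvd_index e.two_dvd⟩

end Fe

open Fe

theorem Same.of_subgroup (h : ∀ Γ : Subgroup (P × P), Cj α Γ ↔ Cj β Γ) : Same α β := fun R => by
  rw [← cj_closure, h, cj_closure]

theorem Same.symm (h : Same α β) : Same β α := fun R => (h R).symm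

theorem Same.trans {γ : P →* X} (h : Same α β) (h' : Same β γ) : Same α γ := fun R => (h R).trans (h' R)

theorem Same.comp (h : Same α β) (f : P' →* P) : Same (α.comp f) (β.comp f) := fun R => by
  rw [cj_comp, cj_comp, h]

theorem Same.eq_one (h : Same α β) (x : P) : α x = 1 ↔ β x = 1 := by
  have := h {(1, x)}
  rwa [cj_single, cj_single, map_one, map_one, isConj_one_right, isConj_one_right] at this

theorem Same.isConj (h : Same α β) (x y : P) : IsConj (α x) (α y) ↔ IsConj (β x) (β y) := by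
  rw [← cj_single, ← cj_single, h]

theorem Fe.same_of_comp {f : P' →* P} (hf : Function.Surjective f) (h : Same (α.comp f) (β.comp f)) : Same α β :=
  fun R => by
    have := h (Prod.map f f ⁻¹' R)
    rwa [cj_comp, cj_comp, Set.image_preimage_eq _ (hf.prodMap hf)] at this

theorem same_equiv (α : P →* G) (e : G ≃* H) : Same α (e.toMonoidHom.comp α) := fun R => by
  refine ⟨fun ⟨g, h⟩ => ⟨e g, fun p hp => ?_⟩, fun ⟨g, h⟩ => ⟨e.symm g, fun p hp => e.injective ?_⟩⟩
  · change e (α p.2) = e g * e (α p.1) * (e g)⁻¹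
    rw [h p hp, map_mul, map_mul, map_inv]
  · rw [map_mul, map_mul, map_inv, e.apply_symm_apply]
    exact h p hp

theorem Sy.equiv (h : Sy α) (e : G ≃* H) : Sy (e.toMonoidHom.comp α) := by
  rw [Sy, MonoidHom.range_comp]
  exact ⟨h.1.map _, (index_map_equiv α.range e).symm ▸ h.2⟩

theorem Sy.exists_sylow [Finite G] (h : Sy α) : ∃ S : Sylow 2 G, (S : Subgroup G) = α.range :=
  ⟨h.1.toSylow fun e => Nat.not_even_iff_odd.2 h.2 (even_iff_two_dvd.2 e), rfl⟩

theorem sy_sylow [Finite G] (S : Sylow 2 G) : Sy (S : Subgroup G).subtype := sy_of_sylow (range_subtype _).symm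

theorem Sy.card [Finite G] (h : Sy α) : Nat.card α.range = 2 ^ padicValNat 2 (Nat.card G) := by
  obtain ⟨S, hS⟩ := h.exists_sylow
  rw [← hS, S.card_eq_multiplicity, Nat.factorization_def _ Nat.prime_two]

theorem sy_of_card [Finite G] (h : Nat.card α.range = 2 ^ padicValNat 2 (Nat.card G)) : Sy α :=
  sy_of_sylow (S := Sylow.ofCard α.range (by rw [h, Nat.factorization_def _ Nat.prime_two])) rfl

theorem Sy.exists_conj [Finite G] (h : Sy α) {E : Subgroup G} (hE : IsPGroup 2 E) :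
    ∃ g : G, ∀ x ∈ E, g * x * g⁻¹ ∈ α.range := by
  obtain ⟨S, hS⟩ := h.exists_sylow
  obtain ⟨Q, hQ⟩ := hE.exists_le_sylow
  obtain ⟨g, rfl⟩ := MulAction.exists_smul_eq G Q S
  exact ⟨g, fun x hx => hS ▸ Subgroup.smul_mem_pointwise_smul x (MulAut.conj g) _ (hQ hx)⟩

theorem Sy.nonempty_equiv [Finite G] (h : Sy α) (S : Sylow 2 G) :
    Nonempty ((S : Subgroup G) ≃* α.range) := by
  obtain ⟨S', hS⟩ := h.exists_sylow
  exact ⟨(S.equiv S').trans (MulEquiv.subgroupCongr hS)⟩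

variable [Finite G] [Finite H] [Finite X]

theorem FE.mk' (hα : Sy α) (hβ : Sy β) (h : Same α β) : FE G H := by
  obtain ⟨S, hS⟩ := hα.exists_sylow
  let f : P →* (S : Subgroup G) := α.codRestrict _ fun x => hS ▸ ⟨x, rfl⟩
  have hf : Function.Surjective f := fun y => by
    obtain ⟨x, hx⟩ : (y : G) ∈ α.range := hS ▸ y.2
    exact ⟨x, Subtype.ext hx⟩
  have hk : f.ker ≤ β.ker := fun x hx => (h.eq_one x).1 (congrArg Subtype.val hx)
  have e : (f.liftOfSurjective hf ⟨β, hk⟩).comp f = β := f.liftOfRightInverse_comp _ _ _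
  refine ⟨S, f.liftOfSurjective hf ⟨β, hk⟩, ?_, same_of_comp hf (by rw [e]; exact h)⟩
  rwa [← e, Sy, MonoidHom.range_comp, MonoidHom.range_eq_top.2 hf, ← MonoidHom.range_eq_map] at hβ

theorem FE.tr (h : FE G H) (γ : P →* G) (hγ : IsPGroup 2 γ.range) :
    ∃ δ : P →* H, Same γ δ ∧ IsPGroup 2 δ.range ∧ (Sy γ → Sy δ) := by
  obtain ⟨S, β, hβ, h⟩ := h
  obtain ⟨g, hg⟩ := (sy_sylow S).exists_conj hγ
  rw [range_subtype] at hg
  let f : P →* (S : Subgroup G) := ((MulAut.conj g).toMonoidHom.comp γ).codRestrict _ fun x => hg _ ⟨x, rfl⟩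
  refine ⟨β.comp f, (same_equiv γ (MulAut.conj g)).trans (h.comp f), hβ.1.to_le ?_, fun k => ?_⟩
  · rw [MonoidHom.range_comp]; exact map_le_range _ _
  · have e : ((MulAut.conj g).toMonoidHom.comp γ).range = S := eq_of_le_of_card_ge
      (by rintro _ ⟨x, rfl⟩; exact hg _ ⟨x, rfl⟩)
      (by rw [(k.equiv _).card, ← (sy_sylow S).card, range_subtype])
    have hf : Function.Surjective f := fun y => by
      obtain ⟨x, hx⟩ : (y : G) ∈ ((MulAut.conj g).toMonoidHom.comp γ).range := e.ge y.2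
      exact ⟨x, Subtype.ext hx⟩
    rwa [Sy, MonoidHom.range_comp, MonoidHom.range_eq_top.2 hf, ← MonoidHom.range_eq_map]

theorem FE.symm (h : FE G H) : FE H G := by
  obtain ⟨S, β, hβ, h⟩ := h
  exact FE.mk' hβ (sy_sylow S) h.symm

theorem FE.trans (h : FE G H) (h' : FE H X) : FE G X := by
  obtain ⟨S, β, hβ, h⟩ := h
  obtain ⟨δ, h1, -, h2⟩ := h'.tr β hβ.1
  exact ⟨S, δ, h2 hβ, h.trans h1⟩

theorem FE.of_equiv (e : G ≃* H) : FE G H :=
  ⟨default, _, (sy_sylow default).equiv e, same_equiv _ e⟩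

theorem Fe.inj {S : Subgroup G} {β : S →* H} (h : Same S.subtype β) : Function.Injective β :=
  (injective_iff_map_eq_one β).2 fun x hx => Subtype.ext ((h.eq_one x).2 hx)

theorem FE.card (h : FE G H) : padicValNat 2 (Nat.card G) = padicValNat 2 (Nat.card H) := by
  obtain ⟨S, β, hβ, h⟩ := h
  refine Nat.pow_right_injective le_rfl ?_
  change 2 ^ _ = 2 ^ _
  rw [← hβ.card, ← (sy_sylow S).card, range_subtype]
  exact Nat.card_congr (MonoidHom.ofInjective (inj h)).toEquiv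

theorem FE.sylow_equiv (h : FE G H) (S : Sylow 2 G) (S' : Sylow 2 H) :
    Nonempty ((S : Subgroup G) ≃* (S' : Subgroup H)) := by
  obtain ⟨δ, h1, -, h2⟩ := h.tr _ (sy_sylow S).1
  exact ⟨(MonoidHom.ofInjective (inj h1)).trans ((h2 (sy_sylow S)).nonempty_equiv S').some.symm⟩

theorem fe_iff (S : Sylow 2 G) :
    (∃ ι : (S : Subgroup G) →* H, (Cfsg.groupFusionSystem (S : Subgroup G)).IsRealizedBy ι ∧
      ∃ U : Sylow 2 H, (U : Subgroup H) = ι.range) ↔ FE G H := by
  constructor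
  · rintro ⟨ι, ⟨hι, h⟩, U, hU⟩
    refine ⟨S, ι, sy_of_sylow hU, fun R => ⟨fun ⟨g, hg⟩ => ?_, fun ⟨g, hg⟩ => ?_⟩⟩
    · obtain ⟨k, hk⟩ := (h ((S : Subgroup G) ⊓ (S : Subgroup G).comap (MulAut.conj g).toMonoidHom) inf_le_left
        (conjHom _ g) fun x => x.2.2).1 ⟨inf_le_left, fun x => x.2.2, g, fun _ => rfl⟩
      refine ⟨k, fun p hp => ?_⟩
      have e : (p.2 : G) = g * p.1 * g⁻¹ := hg p hp
      rw [← hk ⟨p.1, p.1.2, show g * p.1 * g⁻¹ ∈ (S : Subgroup G) from e ▸ p.2.2⟩]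
      exact congrArg ι (Subtype.ext e)
    · let Q := (ι.range.comap ((MulAut.conj g).toMonoidHom.comp ι)).map (S : Subgroup G).subtype
      have hQ : Q ≤ S := map_subtype_le _
      let ψ : Q →* ι.range := (((MulAut.conj g).toMonoidHom.comp ι).comp (inclusion hQ)).codRestrict _ (by
        rintro ⟨_, x, hx, rfl⟩
        exact hx)
      let φ : Q →* (S : Subgroup G) := (MonoidHom.ofInjective hι).symm.toMonoidHom.comp ψ
      have hφ : ∀ x, ι (φ x) = g * ι ⟨x, hQ x.2⟩ * g⁻¹ := fun x =>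
        MonoidHom.apply_ofInjective_symm hι (ψ x)
      obtain ⟨-, -, k, hk⟩ := (h Q hQ ((S : Subgroup G).subtype.comp φ) fun x => (φ x).2).2 ⟨g, hφ⟩
      refine ⟨k, fun p hp => ?_⟩
      have hx : (p.1 : G) ∈ Q := ⟨p.1, ⟨p.2, hg p hp⟩, rfl⟩
      rw [← hι ((hφ ⟨p.1, hx⟩).trans (hg p hp).symm)]
      exact hk ⟨p.1, hx⟩
  · intro h
    obtain ⟨δ, h1, -, h2⟩ := h.tr _ (sy_sylow S).1
    refine ⟨δ, ⟨inj h1, fun Q hQ φ hφ => ?_⟩, (h2 (sy_sylow S)).exists_sylow⟩
    have := h1 (Set.range fun x : Q => (⟨x, hQ x.2⟩, ⟨φ x, hφ x⟩))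
    simp only [Cj, Set.forall_mem_range] at this
    exact ⟨fun k => this.1 k.2.2, fun k => ⟨hQ, hφ, this.2 k⟩⟩

end Cfsg.Agent.F5
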