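import Mathlib
import Cfsg.Agent.F5.Fe
import Cfsg.Agent.Inv.FzBasic

/-! Passing to a subgroup (Alperin) and to the central quotient (see stubs/Cfsg/Agent/F5/PLAN.md) -/

set_option autoImplicit false
set_option linter.unusedSectionVars false

namespace Cfsg.Agent.F5

open Subgroup
open Cfsg.Agent.Inv.Fz

variable {P A B G G' : Type*} [Group P] [Group A] [Group B] [Group G] [Group G']
  [Finite A] [Finite B] [Finite G] [Finite G'] {α : P →* A} {β : P →* B}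

namespace Al

/-- The predicate fed into Alperin's theorem. -/
def Ph (α : P →* A) (β : P →* B) (D : Subgroup A) (g : A) : Prop :=
  D ≤ α.range ∧ cj g D ≤ α.range ∧ Cj β {p | α p.1 ∈ D ∧ α p.2 = g * α p.1 * g⁻¹}

theorem cj_mono' {R R' : Set (P × P)} (h' : Cj β R') (h : ∀ p ∈ R, p ∈ R') : Cj β R :=
  h'.imp fun _ hb p hp => hb p (h p hp)

theorem Ph.mono {D D' : Subgroup A} {g : A} (h : D ≤ D') (h' : Ph α β D' g) : Ph α β D g :=
  ⟨h.trans h'.1, (cj_mono h).trans h'.2.1, cj_mono' h'.2.2 fun _ hp => ⟨h hp.1, hp.2⟩⟩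

theorem Ph.comp {D : Subgroup A} {g k : A} (h : Ph α β D g) (h' : Ph α β (cj g D) k) :
    Ph α β D (k * g) := by
  obtain ⟨h1, h2, b, hb⟩ := h
  obtain ⟨-, h3, c, hc⟩ := h'
  refine ⟨h1, by rwa [← cj_cj], c * b, fun p hp => ?_⟩
  obtain ⟨u, hu⟩ := h2 (conj_mem_cj.2 hp.1)
  have e1 : β u = b * β p.1 * b⁻¹ := hb (p.1, u) ⟨hp.1, hu⟩
  have e2 : β p.2 = c * β u * c⁻¹ := hc (u, p.2) ⟨by
    show α u ∈ cj g D
    rw [hu]; exact conj_mem_cj.2 hp.1, by
    show α p.2 = k * α u * k⁻¹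
    rw [hu, hp.2]; group⟩
  rw [e2, e1]; group

theorem Ph.inv {D : Subgroup A} {g : A} (h : Ph α β D g) : Ph α β (cj g D) g⁻¹ := by
  obtain ⟨h1, h2, b, hb⟩ := h
  refine ⟨h2, by rwa [cj_inv_cj], b⁻¹, fun p hp => ?_⟩
  have e1 : β p.1 = b * β p.2 * b⁻¹ := hb (p.2, p.1) ⟨by
    show α p.2 ∈ D
    rw [hp.2, inv_inv]; exact mem_cj.1 hp.1, by
    show α p.1 = g * α p.2 * g⁻¹
    rw [hp.2]; group⟩
  rw [e1]; group

theorem Ph.cent (iα : Function.Injective α) {D : Subgroup A} (hD : D ≤ α.range) {c : A}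
    (hc : c ∈ centralizer (D : Set A)) : Ph α β D c := by
  refine ⟨hD, by rwa [cj_eq_of_mem_centralizer hc], 1, fun p hp => ?_⟩
  have : p.2 = p.1 := iα (by rw [hp.2, ← hc _ hp.1, mul_inv_cancel_right])
  rw [this]; group

theorem Ph.self (iα : Function.Injective α) {D : Subgroup A} (hD : D ≤ α.range) (u : P) :
    Ph α β D (α u) := by
  refine ⟨hD, cj_le_iff.2 fun x hx => mul_mem (mul_mem ⟨u, rfl⟩ (hD hx)) (inv_mem ⟨u, rfl⟩), β u,
    fun p hp => ?_⟩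
  have : p.2 = u * p.1 * u⁻¹ := iα (by rw [hp.2, map_mul, map_mul, map_inv])
  rw [this, map_mul, map_mul, map_inv]

/-- The elements of the normaliser of `D` whose action is realised in the second group. -/
def nS (α : P →* A) (β : P →* B) (iα : Function.Injective α) (D : Subgroup A) (hD : D ≤ α.range) :
    Subgroup A where
  carrier := {g | g ∈ normalizer (D : Set A) ∧ Ph α β D g}
  one_mem' := ⟨one_mem _, Ph.cent iα hD (one_mem _)⟩
  mul_mem' := fun {g k} hg hk => ⟨mul_mem hg.1 hk.1, hk.2.comp (by rw [cj_eq_iff.2 hk.1]; exact hg.2)⟩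
  inv_mem' := fun {g} hg => ⟨inv_mem hg.1, by have := hg.2.inv; rwa [cj_eq_iff.2 hg.1] at this⟩

end Al

theorem cj_of_odd (hα : Sy α) (iα : Function.Injective α)
    (h : ∀ (R : Set (P × P)) (g : A), Odd (orderOf g) → (∀ p ∈ R, α p.2 = g * α p.1 * g⁻¹) →
      (∀ p ∈ R, ∃ p' ∈ R, p'.1 = p.2) → Cj β R) (R : Set (P × P)) (hR : Cj α R) : Cj β R := by
  obtain ⟨S, hS⟩ := hα.exists_sylow
  have key := alperin S (Al.Ph α β) (fun _ _ _ => Al.Ph.mono) (fun _ _ _ => Al.Ph.comp)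
    (fun _ _ => Al.Ph.inv) (fun D hD c hc => Al.Ph.cent iα (hS ▸ hD) hc) (fun D hD hN _ g hg => by
      have hD' : D ≤ α.range := hS ▸ hD
      have hK : closure {x : A | x ∈ normalizer (D : Set A) ∧ Odd (orderOf x)} ≤ Al.nS α β iα D hD' := by
        rw [closure_le]
        rintro x ⟨hx, hx'⟩
        have e := cj_eq_iff.2 hx
        refine ⟨hx, hD', by rwa [e], h _ x hx' (fun p hp => hp.2) fun p hp => ?_⟩
        have h1 : α p.2 ∈ D := by rw [hp.2, ← e]; exact conj_mem_cj.2 hp.1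
        obtain ⟨u, hu⟩ := hD' (show x * α p.2 * x⁻¹ ∈ D by rw [← e]; exact conj_mem_cj.2 h1)
        exact ⟨(p.2, u), ⟨h1, hu⟩, rfl⟩
      obtain ⟨a, ha, b, hb, rfl⟩ := hN.exists_mul_of_pow_mem
        (K := closure {x : A | x ∈ normalizer (D : Set A) ∧ Odd (orderOf x)})
        (hK.trans fun _ hx => hx.1) (fun n hn => cj_eq_iff.1 (cj_eq_of_le (by
          rw [cj_closure, closure_le]
          rintro _ ⟨x, ⟨hx, hx'⟩, rfl⟩
          refine subset_closure ⟨mul_mem (mul_mem hn hx) (inv_mem hn), ?_⟩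
          exact ((MulAut.conj n).orderOf_eq x).symm ▸ hx'))) (fun x hx => by
          obtain ⟨k, hk⟩ := exists_pow_coprime (p := 2) x
          exact ⟨k, subset_closure ⟨pow_mem hx _, Nat.coprime_two_right.1 hk⟩⟩) hg
      obtain ⟨u, rfl⟩ : a ∈ α.range := hS ▸ ha.1
      exact (mul_mem (show α u ∈ Al.nS α β iα D hD' from ⟨ha.2, Al.Ph.self iα hD' u⟩) (hK hb)).2)
  obtain ⟨g, hg⟩ := hR
  refine Al.cj_mono' (key (α.range ⊓ cj g⁻¹ α.range) (hS ▸ inf_le_left) g ?_).2.2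
    fun p hp => ⟨⟨⟨_, rfl⟩, mem_cj.2 ⟨p.2, by rw [hg p hp, inv_inv]⟩⟩, hg p hp⟩
  rw [hS, cj_inf, cj_cj_inv]
  exact inf_le_right

theorem Al.cj_sub (hα : Sy α) (iα : Function.Injective α) {i : A →* G} {j : B →* G'}
    (hj : Function.Injective j) (hs : ∀ R, Cj (i.comp α) R → Cj (j.comp β) R)
    (oj : ∀ g : G', Odd (orderOf g) → ∃ a : B, ∀ t, j a * j (β t) * (j a)⁻¹ = g * j (β t) * g⁻¹)
    (R : Set (P × P)) (hR : Cj α R) : Cj β R := by
  refine cj_of_odd hα iα (fun R g hg h1 h2 => ?_) R hR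
  obtain ⟨g', hg'⟩ := hs R ⟨i g, fun p hp => by
    rw [MonoidHom.comp_apply, MonoidHom.comp_apply, h1 p hp, map_mul, map_mul, map_inv]⟩
  simp only [MonoidHom.comp_apply] at hg'
  obtain ⟨k, hk⟩ := exists_pow_coprime (p := 2) g'
  obtain ⟨m, hm⟩ := exists_pow_eq_self_of_coprime (x := g) (n := 2 ^ k)
    (Nat.Coprime.pow_left _ (Nat.coprime_two_left.2 hg))
  obtain ⟨a, ha⟩ := oj ((g' ^ 2 ^ k) ^ m) ((Nat.coprime_two_right.1 hk).of_dvd_nat (orderOf_pow_dvd m))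
  have ind : ∀ r : ℕ, ∀ p ∈ R, ∃ p' ∈ R, α p'.1 = g ^ r * α p.1 * (g ^ r)⁻¹ ∧
      j (β p'.1) = g' ^ r * j (β p.1) * (g' ^ r)⁻¹ := fun r p hp => by
    induction r with
    | zero => exact ⟨p, hp, by simp, by simp⟩
    | succ r ih =>
      obtain ⟨p', hp', e1, e2⟩ := ih
      obtain ⟨p'', hp'', e⟩ := h2 p' hp'
      exact ⟨p'', hp'', by rw [e, h1 p' hp', e1, pow_succ']; group,
        by rw [e, hg' p' hp', e2, pow_succ']; group⟩
  refine ⟨a, fun p hp => hj ?_⟩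
  obtain ⟨p', -, e1, e2⟩ := ind (2 ^ k * m) p hp
  rw [pow_mul, hm, ← h1 p hp] at e1
  rw [map_mul, map_mul, map_inv, ha, ← iα e1, e2, pow_mul]

theorem same_sub (hα : Sy α) (iα : Function.Injective α) (hβ : Sy β) (iβ : Function.Injective β)
    {i : A →* G} {j : B →* G'} (hi : Function.Injective i) (hj : Function.Injective j)
    (hs : Same (i.comp α) (j.comp β))
    (oi : ∀ g : G, Odd (orderOf g) → ∃ a : A, ∀ t, i a * i (α t) * (i a)⁻¹ = g * i (α t) * g⁻¹)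
    (oj : ∀ g : G', Odd (orderOf g) → ∃ a : B, ∀ t, j a * j (β t) * (j a)⁻¹ = g * j (β t) * g⁻¹) :
    Same α β := fun R =>
  ⟨Al.cj_sub hα iα hj (fun R => (hs R).1) oj R, Al.cj_sub hβ iβ hi (fun R => (hs R).2) oi R⟩

theorem Sy.quot (hα : Sy α) : Sy ((QuotientGroup.mk' (center A)).comp α) := by
  refine ⟨?_, ?_⟩ <;> rw [← MonoidHom.map_range]
  · exact hα.1.map _
  · exact hα.2.of_dvd_nat (index_map_dvd _ (QuotientGroup.mk'_surjective _))

theorem Sy.mem_range_of_center (hα : Sy α) {z : A} (hz : z ∈ center A) {k : ℕ} (hk : z ^ 2 ^ k = 1) :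
    z ∈ α.range := by
  obtain ⟨g, hg⟩ := hα.exists_conj (E := zpowers z) (by
    rintro ⟨_, n, rfl⟩
    refine ⟨k, Subtype.ext ?_⟩
    show (z ^ n) ^ 2 ^ k = 1
    rw [← zpow_natCast, ← zpow_mul, mul_comm, zpow_mul, zpow_natCast, hk, one_zpow])
  have := hg z (mem_zpowers z)
  rwa [mem_center_iff.1 hz g, mul_inv_cancel_right] at this

theorem Sy.lift_conj (hα : Sy α) {g : A} {s t : P}
    (h : (QuotientGroup.mk (α t) : A ⧸ center A) = QuotientGroup.mk (g * α s * g⁻¹)) :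
    ∃ c : P, α c ∈ center A ∧ α t = g * α s * g⁻¹ * α c := by
  have hz := QuotientGroup.eq.1 h.symm
  obtain ⟨a, ha⟩ := hα.1 ⟨α s, s, rfl⟩
  obtain ⟨b, hb⟩ := hα.1 ⟨α t, t, rfl⟩
  have ha' : α s ^ 2 ^ a = 1 := congrArg Subtype.val ha
  have hb' : α t ^ 2 ^ b = 1 := congrArg Subtype.val hb
  have e : α t = g * α s * g⁻¹ * ((g * α s * g⁻¹)⁻¹ * α t) := (mul_inv_cancel_left _ _).symm
  obtain ⟨c, hc⟩ := hα.mem_range_of_center hz (k := a + b) (by
    have h1 := congrArg (· ^ 2 ^ (a + b)) e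
    have h2 : α s ^ 2 ^ (a + b) = 1 := by rw [pow_add, pow_mul, ha', one_pow]
    have h3 : α t ^ 2 ^ (a + b) = 1 := by rw [pow_add, mul_comm, pow_mul, hb', one_pow]
    rw [Commute.mul_pow (mem_center_iff.1 hz _), conj_pow, h2, h3] at h1
    simpa using h1.symm)
  exact ⟨c, hc ▸ hz, hc ▸ e⟩

theorem Al.cj_quot (hα : Sy α) (hs : ∀ R, Cj α R → Cj β R) (hc : ∀ t, α t ∈ center A → β t ∈ center B)
    (R : Set (P × P)) (hR : Cj ((QuotientGroup.mk' (center A)).comp α) R) :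
    Cj ((QuotientGroup.mk' (center B)).comp β) R := by
  obtain ⟨g, hg⟩ := hR
  obtain ⟨g, rfl⟩ := QuotientGroup.mk_surjective g
  obtain ⟨b, hb⟩ := hs {q | α q.2 = g * α q.1 * g⁻¹} ⟨g, fun _ hq => hq⟩
  refine ⟨QuotientGroup.mk b, fun p hp => ?_⟩
  obtain ⟨c, h1, h2⟩ := hα.lift_conj (g := g) (s := p.1) (t := p.2) (hg p hp)
  have e : β (p.2 * c⁻¹) = b * β p.1 * b⁻¹ := hb (p.1, p.2 * c⁻¹) (by
    show α (p.2 * c⁻¹) = g * α p.1 * g⁻¹
    rw [map_mul, map_inv, h2, mul_inv_cancel_right])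
  show (QuotientGroup.mk (β p.2) : B ⧸ center B) = QuotientGroup.mk (b * β p.1 * b⁻¹)
  rw [← e, QuotientGroup.eq, map_mul, inv_mul_cancel_left, map_inv]
  exact inv_mem (hc c h1)

theorem same_quot (hα : Sy α) (hβ : Sy β) (hs : Same α β) (hc : ∀ t, α t ∈ center A ↔ β t ∈ center B) :
    Same ((QuotientGroup.mk' (center A)).comp α) ((QuotientGroup.mk' (center B)).comp β) := fun R =>
  ⟨Al.cj_quot hα (fun R => (hs R).1) (fun t => (hc t).1) R,
    Al.cj_quot hβ (fun R => (hs R).2) (fun t => (hc t).2) R⟩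

end Cfsg.Agent.F5
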