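import Mathlib
import Cfsg.Agent.F5.Defs

/-! The order of the model. -/

set_option autoImplicit false
set_option linter.unusedSectionVars false

namespace Cfsg.Agent.F5

open Subgroup

variable {n M : ℕ} {b : Bool}

namespace CdT

theorem card_ker (M a : ℕ) : Nat.card {x : ZMod (2 ^ M) // a • x = 0} = (2 ^ M).gcd a := by
  have := IsAddCyclic.card_nsmulAddMonoidHom_ker (ZMod (2 ^ M)) a
  rw [Nat.card_zmod] at this
  exact this

/-- The annihilator of the solutions of `x = e x`. -/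
def an (k : ℕ) (b : Bool) : ℕ := if b then 2 ^ (k + 2) else 2 ^ (k + 2) + 2

theorem hf_eq (k : ℕ) : hf (k + 3) = 2 ^ (k + 2) := rfl

theorem fix_iff (k : ℕ) (b : Bool) (x : ZMod (2 ^ (k + 3))) : x = ee (k + 3) b * x ↔ an k b • x = 0 := by
  have h := hf_add_hf (k + 3)
  rw [hf_eq] at h
  cases b <;> simp only [ee, an, hf_eq, nsmul_eq_mul, Bool.false_eq_true, if_false, if_true] <;> push_cast <;>
    refine ⟨fun e => ?_, fun e => ?_⟩
  · linear_combination e + x * h
  · linear_combination e - x * h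
  · linear_combination -e
  · linear_combination -e

theorem card_fix (k : ℕ) (b : Bool) :
    Nat.card {x : ZMod (2 ^ (k + 3)) // x = ee (k + 3) b * x} = 2 ^ (if b then k + 2 else 1) := by
  rw [Nat.card_congr (Equiv.subtypeEquivRight (fix_iff k b)), card_ker]
  cases b <;> simp only [an, Bool.false_eq_true, if_false, if_true]
  · rw [show 2 ^ (k + 2) + 2 = 2 * (2 ^ (k + 1) + 1) by ring, pow_succ' 2 (k + 2), Nat.gcd_mul_left,
      (Nat.coprime_two_left.2 (by simp [pow_succ, parity_simps])).pow_left]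
    rfl
  · exact Nat.gcd_eq_right (pow_dvd_pow 2 (by omega))

theorem hf_sq (k : ℕ) : hf (k + 3) * hf (k + 3) = 0 := by
  have h := hf_add_hf (k + 3)
  rw [hf_eq] at h ⊢
  linear_combination (2 ^ (k + 1)) * h

theorem ee_sq (k : ℕ) (b : Bool) : ee (k + 3) b * ee (k + 3) b = 1 := by
  have h := hf_add_hf (k + 3)
  have h' := hf_sq k
  cases b <;> simp only [ee, Bool.false_eq_true, if_false, if_true]
  · linear_combination h' - h
  · linear_combination h' + h

theorem hf_fix (k : ℕ) (b : Bool) : hf (k + 3) = ee (k + 3) b * hf (k + 3) := by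
  have h := hf_add_hf (k + 3)
  have h' := hf_sq k
  cases b <;> simp only [ee, Bool.false_eq_true, if_false, if_true]
  · linear_combination h - h'
  · linear_combination -h'

theorem hf_ne (k : ℕ) : hf (k + 3) ≠ 0 := fun h => by
  rw [hf_eq] at h
  have := (ZMod.natCast_eq_zero_iff (2 ^ (k + 2)) (2 ^ (k + 3))).1 (by exact_mod_cast h)
  rw [Nat.pow_dvd_pow_iff_le_right (by norm_num)] at this
  omega

/-- The exponent vectors of the model. -/
abbrev D (n M : ℕ) (b : Bool) : Type := {d : Fin n → ZMod (2 ^ M) // ∀ i, d (pb n b i) = ee M b * d i}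

theorem card_D1 (n k : ℕ) : Nat.card (D n (k + 3) true) = 2 ^ ((k + 2) * n) := by
  rw [show D n (k + 3) true = {d : Fin n → ZMod (2 ^ (k + 3)) // ∀ i, d i = ee (k + 3) true * d i} from rfl,
    Nat.card_congr (Equiv.subtypePiEquivPi (p := fun _ x => x = ee (k + 3) true * x)), Nat.card_pi, card_fix]
  simp [pow_mul]

theorem card_D2 (hn : 2 ≤ n ∧ n ≤ 5) (k : ℕ) : Nat.card (D n (k + 3) false) = 2 ^ ((k + 3) * (n / 2) + n % 2) ∧
    ∃ d : D n (k + 3) false, ∑ i, d.1 i = hf (k + 3) := by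
  have e2 : ∀ x, ee (k + 3) false * (ee (k + 3) false * x) = x := fun x => by rw [← mul_assoc, ee_sq, one_mul]
  have c := card_fix k false
  have s : 1 + ee (k + 3) false = hf (k + 3) := by simp [ee]
  obtain ⟨h2, h5⟩ := hn
  interval_cases n
  · have p : pb 2 false 0 = 1 ∧ pb 2 false 1 = 0 := by decide
    refine ⟨?_, ⟨![1, ee _ false], by simp [Fin.forall_fin_succ, p, ee_sq]⟩, by simp [Fin.sum_univ_succ, s]⟩
    rw [Nat.card_congr (β := ZMod (2 ^ (k + 3)))
      ⟨fun d => d.1 0, fun x => ⟨![x, ee _ false * x], by simp [Fin.forall_fin_succ, p, e2]⟩, fun d => ?_, fun x => rfl⟩]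
    · simp
    · have := d.2 0
      ext i; fin_cases i <;> simp_all
  · have p : pb 3 false 0 = 1 ∧ pb 3 false 1 = 0 ∧ pb 3 false 2 = 2 := by decide
    refine ⟨?_, ⟨![1, ee _ false, 0], by simp [Fin.forall_fin_succ, p, ee_sq]⟩, by simp [Fin.sum_univ_succ, s]⟩
    rw [Nat.card_congr (β := ZMod (2 ^ (k + 3)) × {x : ZMod (2 ^ (k + 3)) // x = ee (k + 3) false * x})
      ⟨fun d => (d.1 0, ⟨d.1 2, d.2 2⟩), fun x => ⟨![x.1, ee _ false * x.1, x.2], by
        simpa [Fin.forall_fin_succ, p, e2] using x.2.2⟩, fun d => ?_, fun x => rfl⟩]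
    · rw [Nat.card_prod, c]; simp [pow_succ]
    · have := d.2 0
      ext i; fin_cases i <;> simp_all
  · have p : pb 4 false 0 = 1 ∧ pb 4 false 1 = 0 ∧ pb 4 false 2 = 3 ∧ pb 4 false 3 = 2 := by decide
    refine ⟨?_, ⟨![1, ee _ false, 0, 0], by simp [Fin.forall_fin_succ, p, ee_sq]⟩, by simp [Fin.sum_univ_succ, s]⟩
    rw [Nat.card_congr (β := ZMod (2 ^ (k + 3)) × ZMod (2 ^ (k + 3)))
      ⟨fun d => (d.1 0, d.1 2), fun x => ⟨![x.1, ee _ false * x.1, x.2, ee _ false * x.2], by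
        simp [Fin.forall_fin_succ, p, e2]⟩, fun d => ?_, fun x => rfl⟩]
    · rw [Nat.card_prod, Nat.card_zmod]; ring
    · have := d.2 0
      have := d.2 2
      ext i; fin_cases i <;> simp_all
  · have p : pb 5 false 0 = 1 ∧ pb 5 false 1 = 0 ∧ pb 5 false 2 = 3 ∧ pb 5 false 3 = 2 ∧ pb 5 false 4 = 4 := by decide
    refine ⟨?_, ⟨![1, ee _ false, 0, 0, 0], by simp [Fin.forall_fin_succ, p, ee_sq]⟩, by simp [Fin.sum_univ_succ, s]⟩
    rw [Nat.card_congr (β := ZMod (2 ^ (k + 3)) × ZMod (2 ^ (k + 3)) × {x : ZMod (2 ^ (k + 3)) // x = ee (k + 3) false * x})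
      ⟨fun d => (d.1 0, d.1 2, ⟨d.1 4, d.2 4⟩), fun x => ⟨![x.1, ee _ false * x.1, x.2.1, ee _ false * x.2.1, x.2.2], by
        simpa [Fin.forall_fin_succ, p, e2] using x.2.2.2⟩, fun d => ?_, fun x => rfl⟩]
    · rw [Nat.card_prod, Nat.card_prod, c, Nat.card_zmod]; simp only [Bool.false_eq_true, if_false]; ring
    · have := d.2 0
      have := d.2 2
      ext i; fin_cases i <;> simp_all

theorem card_C (hn : 2 ≤ n ∧ n ≤ 5) :
    Nat.card {s : Equiv.Perm (Fin n) // s * pi n = pi n * s} = 2 ^ (if n ≤ 3 then 1 else 3) := by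
  obtain ⟨h2, h5⟩ := hn
  interval_cases n <;> rw [Nat.card_eq_fintype_card] <;> decide +kernel

/-- The model without the condition on the determinant. -/
def S (n M : ℕ) (b : Bool) : Subgroup (Mon n (2 ^ M)) where
  carrier := {m | m.s * pi n = pi n * m.s ∧ ∀ i, m.d (pb n b i) = ee M b * m.d i}
  one_mem' := ⟨by simp, by simp⟩
  mul_mem' := fun {x y} hx hy => ⟨by rw [Mon.mul_s, mul_assoc, hy.1, ← mul_assoc, hx.1, mul_assoc],
    fun i => by rw [Mon.mul_d, Mon.mul_d, hy.2, pb_comm hy.1, hx.2, mul_add]⟩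
  inv_mem' := fun {x} hx => by
    have h : x.s⁻¹ * pi n = pi n * x.s⁻¹ := (show Commute x.s (pi n) from hx.1).inv_left
    exact ⟨h, fun i => by rw [Mon.inv_d, Mon.inv_d, pb_comm h, hx.2, mul_neg]⟩

/-- The determinant. -/
def δ (n M : ℕ) (b : Bool) : S n M b →* Multiplicative (ZMod (2 ^ M)) :=
  MonoidHom.mk' (fun m => Multiplicative.ofAdd (dg m.1)) fun x y => by rw [coe_mul, dg_mul]; rfl

theorem card_S : Nat.card (S n M b) =
    Nat.card {s : Equiv.Perm (Fin n) // s * pi n = pi n * s} * Nat.card (D n M b) := by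
  rw [← Nat.card_prod]
  exact Nat.card_congr ⟨fun m => (⟨m.1.s, m.2.1⟩, ⟨m.1.d, m.2.2⟩), fun x => ⟨⟨x.2.1, x.1.1⟩, x.1.2, x.2.2⟩,
    fun _ => rfl, fun _ => rfl⟩

theorem card_S' : Nat.card (S n M b) = Nat.card (δ n M b).range * Nat.card (T n M b) := by
  rw [card_eq_card_quotient_mul_card_subgroup (δ n M b).ker,
    Nat.card_congr (QuotientGroup.quotientKerEquivRange _).toEquiv]
  congr 1
  exact Nat.card_congr ⟨fun m => ⟨m.1.1, m.1.2.1, m.1.2.2, m.2⟩, fun m => ⟨⟨m.1, m.2.1, m.2.2.1⟩, m.2.2.2⟩,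
    fun _ => rfl, fun _ => rfl⟩

theorem card_range (hn : 2 ≤ n ∧ n ≤ 5) (k : ℕ) : Nat.card (δ n (k + 3) b).range = 2 ^ (if b then k + 2 else 1) := by
  have h1 : ∀ x ∈ (δ n (k + 3) b).range, x.toAdd = ee (k + 3) b * x.toAdd := by
    rintro _ ⟨m, rfl⟩
    change dg m.1 = _ * dg m.1
    rw [dg, mul_add, Finset.mul_sum, ← Finset.sum_congr rfl fun i _ => m.2.2 i, Equiv.sum_comp (pb n b) m.1.d]
    split_ifs
    exacts [by rw [mul_zero], by rw [← hf_fix]]
  have h2 : ∀ d : D n (k + 3) b, Multiplicative.ofAdd (∑ i, d.1 i) ∈ (δ n (k + 3) b).range := fun d =>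
    ⟨⟨⟨d.1, 1⟩, by simp, d.2⟩, congrArg Multiplicative.ofAdd (by simp [dg])⟩
  refine le_antisymm ?_ ?_
  · rw [← card_fix k b]
    exact Nat.card_le_card_of_injective (fun x => ⟨x.1.toAdd, h1 x.1 x.2⟩)
      fun x y e => Subtype.ext (congrArg Subtype.val e :)
  cases b
  · obtain ⟨d, hd⟩ := (card_D2 hn k).2
    exact (one_lt_card_iff_ne_bot _).2 fun e => hf_ne k (hd ▸ (eq_bot_iff_forall _).1 e _ (h2 d) :)
  · rw [← card_fix k true]
    refine Nat.card_le_card_of_injective (fun x => ⟨Multiplicative.ofAdd x.1, ?_⟩)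
      fun x y e => Subtype.ext (congrArg Subtype.val e :)
    have := h2 ⟨fun i => if i = ⟨0, by omega⟩ then x.1 else 0, fun i => by
      change (if i = _ then _ else _) = _ * (if i = _ then _ else _)
      split_ifs
      exacts [x.2, by rw [mul_zero]]⟩
    simpa only [Finset.sum_ite_eq', Finset.mem_univ, if_true] using this

theorem sc_iff (hn : 2 ≤ n ∧ n ≤ 5) (k : ℕ) (x : ZMod (2 ^ (k + 3))) :
    x = ee (k + 3) b * x ∧ n • x = 0 ↔ 2 ^ exZ n b • x = 0 := by
  have u : ∀ m : ℕ, Odd m → (m • x = 0 ↔ x = 0) := fun m hm => by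
    rw [nsmul_eq_mul, ((ZMod.isUnit_iff_coprime _ _).2 ((Nat.coprime_two_right.2 hm).pow_right _)).mul_right_eq_zero]
  rw [fix_iff]
  obtain ⟨h2, h5⟩ := hn
  interval_cases n
  · refine ⟨fun h => h.2, fun h => ⟨?_, h⟩⟩
    replace h : 2 * x = 0 := by simpa [exZ] using h
    cases b <;> simp only [an, nsmul_eq_mul, Bool.false_eq_true, if_false, if_true] <;> push_cast
    exacts [by linear_combination (2 ^ (k + 1) + 1) * h, by linear_combination (2 ^ (k + 1)) * h]
  · rw [u 3 (by decide)]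
    simp +contextual [exZ]
  · cases b <;> simp only [an, exZ, nsmul_eq_mul, Bool.false_eq_true, if_false, if_true] <;> norm_num
    · exact ⟨fun h => by linear_combination h.1 - 2 ^ k * h.2,
        fun h => ⟨by linear_combination (2 ^ (k + 1) + 1) * h, by linear_combination 2 * h⟩⟩
    · exact fun h => by linear_combination 2 ^ k * h
  · rw [u 5 (by decide)]
    simp +contextual [exZ]

end CdT

open CdT

theorem card_T (hn : 2 ≤ n ∧ n ≤ 5) (hM : 3 ≤ M) : Nat.card (T n M b) = 2 ^ exT n M b := by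
  obtain ⟨k, rfl⟩ : ∃ k, M = k + 3 := ⟨M - 3, by omega⟩
  have h := card_S' (n := n) (M := k + 3) (b := b)
  rw [card_S, card_C hn, card_range hn] at h
  refine Nat.eq_of_mul_eq_mul_left (pow_pos two_pos _) (h.symm.trans ?_)
  obtain ⟨h2, h5⟩ := hn
  cases b
  · rw [(card_D2 ⟨h2, h5⟩ k).1, ← pow_add, ← pow_add]
    congr 1
    interval_cases n <;> simp [exT] <;> omega
  · rw [card_D1, ← pow_add, ← pow_add]
    congr 1
    interval_cases n <;> simp [exT] <;> omega

theorem isPGroup_T (hn : 2 ≤ n ∧ n ≤ 5) (hM : 3 ≤ M) : IsPGroup 2 (T n M b) := IsPGroup.of_card (card_T hn hM)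

theorem card_Sc (hn : 2 ≤ n ∧ n ≤ 5) (hM : 3 ≤ M) :
    Nat.card {m : T n M b // Sc (m : Mon n (2 ^ M))} = 2 ^ exZ n b := by
  obtain ⟨k, rfl⟩ : ∃ k, M = k + 3 := ⟨M - 3, by omega⟩
  let o : Fin n := ⟨0, by omega⟩
  have e : ∀ m : {m : T n (k + 3) b // Sc (m : Mon n (2 ^ (k + 3)))}, m.1.1 = ⟨fun _ => m.1.1.d o, 1⟩ := fun m =>
    Mon.ext (funext fun i => m.2.2 i o) m.2.1
  rw [Nat.card_congr (β := {x : ZMod (2 ^ (k + 3)) // 2 ^ exZ n b • x = 0})
    ⟨fun m => ⟨m.1.1.d o, (sc_iff hn k _).1 ⟨(m.2.2 _ _).trans (m.1.2.2.1 o), by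
        have := m.1.2.2.2
        rw [e m] at this
        simpa [dg] using this⟩⟩,
      fun x => ⟨⟨⟨fun _ => x.1, 1⟩, by simp, fun _ => ((sc_iff hn k _).2 x.2).1, by
        simpa [dg] using ((sc_iff hn k _).2 x.2).2⟩, rfl, fun _ _ => rfl⟩,
      fun m => Subtype.ext (Subtype.ext (e m).symm), fun x => rfl⟩, card_ker]
  refine Nat.gcd_eq_right (pow_dvd_pow 2 ?_)
  unfold exZ
  split_ifs <;> omega

theorem Rl.card {X : Type*} [Group X] {α : T n M b →* X} (h : Rl n M b α) (hn : 2 ≤ n ∧ n ≤ 5)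
    (hM : 3 ≤ M) : Nat.card α.range = 2 ^ (exT n M b - exZ n b) := by
  have h1 := card_eq_card_quotient_mul_card_subgroup α.ker
  rw [Nat.card_congr (QuotientGroup.quotientKerEquivRange _).toEquiv, card_T hn hM,
    show Nat.card α.ker = _ from Nat.card_congr (Equiv.subtypeEquivRight h.2), card_Sc hn hM] at h1
  have h2 := (Nat.pow_dvd_pow_iff_le_right one_lt_two).1 (Dvd.intro_left _ h1.symm)
  refine Nat.eq_of_mul_eq_mul_right (pow_pos two_pos _) (h1.symm.trans ?_)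
  rw [← pow_add, Nat.sub_add_cancel h2]

end Cfsg.Agent.F5
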