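import Mathlib
import Cfsg.Agent.F5.Defs

/-! Equivalence of representations is read off from the intertwining numbers. -/

set_option autoImplicit false
set_option linter.unusedSectionVars false

namespace Cfsg.Agent.F5

open Subgroup

open Module

namespace La1

universe u

variable (L Λ : Type*) [Field L] [Ring Λ] [Algebra L Λ]

/-- The intertwining number. -/
noncomputable def hm (V W : Type*) [AddCommGroup V] [Module Λ V] [AddCommGroup W] [Module Λ W] [Module L W]
    [IsScalarTower L Λ W] : ℕ := finrank L (V →ₗ[Λ] W)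

section

variable {L Λ} {V W V' W' : Type*} [AddCommGroup V] [Module Λ V] [Module L V] [IsScalarTower L Λ V]
  [AddCommGroup W] [Module Λ W] [Module L W] [IsScalarTower L Λ W]
  [AddCommGroup V'] [Module Λ V'] [Module L V'] [IsScalarTower L Λ V']
  [AddCommGroup W'] [Module Λ W'] [Module L W'] [IsScalarTower L Λ W']

theorem fin [Module.Finite L V] [Module.Finite L W] : Module.Finite L (V →ₗ[Λ] W) :=
  Module.Finite.of_injective (LinearMap.restrictScalarsₗ L Λ V W L) (LinearMap.restrictScalars_injective L)

theorem hm_congr (e : V ≃ₗ[Λ] V') (e' : W ≃ₗ[Λ] W') : hm L Λ V W = hm L Λ V' W' :=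
  LinearEquiv.finrank_eq
    { __ := e.arrowCongrAddEquiv e'
      map_smul' := fun c f => LinearMap.ext fun x => (e'.restrictScalars L).map_smul c (f (e.symm x)) }

variable [Module.Finite L V] [Module.Finite L W] [Module.Finite L V'] [Module.Finite L W']

theorem hm_left : hm L Λ (V × V') W = hm L Λ V W + hm L Λ V' W := by
  have := fin (L := L) (Λ := Λ) (V := V) (W := W)
  have := fin (L := L) (Λ := Λ) (V := V') (W := W)
  rw [hm, ← (LinearMap.coprodEquiv L).finrank_eq, finrank_prod, hm, hm]

theorem hm_right : hm L Λ V (W × W') = hm L Λ V W + hm L Λ V W' := by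
  have := fin (L := L) (Λ := Λ) (V := V) (W := W)
  have := fin (L := L) (Λ := Λ) (V := V) (W := W')
  rw [hm, ← (LinearMap.prodEquiv L).finrank_eq, finrank_prod, hm, hm]

theorem sub_of_hm (h : hm L Λ V V = 0) : Subsingleton V := by
  have := fin (L := L) (Λ := Λ) (V := V) (W := V)
  have := finrank_zero_iff.1 h
  exact ⟨fun x y => by
    have e := Subsingleton.elim (LinearMap.id : V →ₗ[Λ] V) 0
    exact (LinearMap.congr_fun e x).trans (LinearMap.congr_fun e y).symm⟩

end

theorem key (n : ℕ) : ∀ (V W : Type u) [AddCommGroup V] [Module Λ V] [Module L V] [IsScalarTower L Λ V]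
    [AddCommGroup W] [Module Λ W] [Module L W] [IsScalarTower L Λ W] [Module.Finite L V] [Module.Finite L W]
    [IsSemisimpleModule Λ V] [IsSemisimpleModule Λ W], finrank L V + finrank L W < n →
    hm L Λ V V + hm L Λ W W = hm L Λ V W + hm L Λ W V → Nonempty (V ≃ₗ[Λ] W) := by
  induction n with
  | zero => intro V W _ _ _ _ _ _ _ _ _ _ _ _ h; omega
  | succ n ih =>
    have step : ∀ (V W : Type u) [AddCommGroup V] [Module Λ V] [Module L V] [IsScalarTower L Λ V]
        [AddCommGroup W] [Module Λ W] [Module L W] [IsScalarTower L Λ W] [Module.Finite L V] [Module.Finite L W]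
        [IsSemisimpleModule Λ V] [IsSemisimpleModule Λ W], finrank L V + finrank L W < n + 1 →
        hm L Λ V V + hm L Λ W W = hm L Λ V W + hm L Λ W V → ∀ f : V →ₗ[Λ] W, f ≠ 0 → Nonempty (V ≃ₗ[Λ] W) := by
      intro V W _ _ _ _ _ _ _ _ _ _ _ _ hn h f hf
      obtain ⟨C, hC⟩ := exists_isCompl (LinearMap.ker f)
      obtain ⟨D, hD⟩ := exists_isCompl (LinearMap.range f)
      have e1 : V ≃ₗ[Λ] LinearMap.range f × LinearMap.ker f :=
        (Submodule.prodEquivOfIsCompl _ _ hC.symm).symm.trans
          (((Submodule.quotientEquivOfIsCompl _ _ hC).symm.trans f.quotKerEquivRange).prodCongr (.refl _ _))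
      have e2 : W ≃ₗ[Λ] LinearMap.range f × D := (Submodule.prodEquivOfIsCompl _ _ hD).symm
      have f1 : Module.Finite L (LinearMap.range f) :=
        .of_injective ((LinearMap.range f).subtype.restrictScalars L) Subtype.val_injective
      have f2 : Module.Finite L (LinearMap.ker f) :=
        .of_injective ((LinearMap.ker f).subtype.restrictScalars L) Subtype.val_injective
      have f3 : Module.Finite L D := .of_injective (D.subtype.restrictScalars L) Subtype.val_injective
      have r1 := (e1.restrictScalars L).finrank_eq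
      have r2 := (e2.restrictScalars L).finrank_eq
      have nt : Nontrivial (LinearMap.range f) := Submodule.nontrivial_iff_ne_bot.2 (mt LinearMap.range_eq_bot.1 hf)
      have r3 : 0 < finrank L (LinearMap.range f) := finrank_pos
      rw [finrank_prod] at r1 r2
      rw [hm_congr e1 e1, hm_congr e2 e2, hm_congr e1 e2, hm_congr e2 e1] at h
      simp only [hm_left, hm_right] at h
      obtain ⟨e⟩ := ih (LinearMap.ker f) D (by omega) (by omega)
      exact ⟨e1.trans (((LinearEquiv.refl _ _).prodCongr e).trans e2.symm)⟩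
    intro V W _ _ _ _ _ _ _ _ _ _ _ _ hn h
    by_cases h1 : ∃ f : V →ₗ[Λ] W, f ≠ 0
    · exact h1.elim (step V W hn h)
    by_cases h2 : ∃ f : W →ₗ[Λ] V, f ≠ 0
    · exact (h2.elim (step W V (by omega) (by omega))).map .symm
    push Not at h1 h2
    have := subsingleton_of_forall_eq _ h1
    have := subsingleton_of_forall_eq _ h2
    have z1 : hm L Λ V W = 0 := finrank_zero_of_subsingleton
    have z2 : hm L Λ W V = 0 := finrank_zero_of_subsingleton
    have := sub_of_hm (L := L) (Λ := Λ) (V := V) (by omega)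
    have := sub_of_hm (L := L) (Λ := Λ) (V := W) (by omega)
    exact ⟨LinearEquiv.ofSubsingleton V W⟩

variable {L} {Γ ι : Type*} [Group Γ] [Fintype ι] [DecidableEq ι]

/-- The representation given by matrices. -/
noncomputable def rp (a : Γ →* Matrix ι ι L) : Representation L Γ (ι → L) :=
  (Matrix.toLinAlgEquiv' : Matrix ι ι L ≃ₐ[L] _).toMulEquiv.toMonoidHom.comp a

theorem rp_apply (a : Γ →* Matrix ι ι L) (γ : Γ) : rp a γ = Matrix.toLin' (a γ) := rfl

/-- Intertwining matrices and intertwining maps. -/
noncomputable def eqv (a b : Γ →* Matrix ι ι L) : Hm a b ≃ₗ[L] (rp a).IntertwiningMap (rp b) where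
  toFun X := ⟨Matrix.toLin' X.1, fun γ => by rw [rp_apply, rp_apply, ← Matrix.toLin'_mul, ← Matrix.toLin'_mul, X.2 γ]⟩
  map_add' X Y := Representation.IntertwiningMap.ext (map_add Matrix.toLin' X.1 Y.1)
  map_smul' c X := Representation.IntertwiningMap.ext (map_smul Matrix.toLin' c X.1)
  invFun f := ⟨LinearMap.toMatrix' f.toLinearMap, fun γ => Matrix.toLin'.injective (by
    rw [Matrix.toLin'_mul, Matrix.toLin'_mul, Matrix.toLin'_toMatrix']
    exact f.isIntertwining' γ)⟩
  left_inv X := Subtype.ext (LinearMap.toMatrix'_toLin' X.1)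
  right_inv f := Representation.IntertwiningMap.ext (Matrix.toLin'_toMatrix' _)

theorem finrank_Hm (a b : Γ →* Matrix ι ι L) :
    finrank L (Hm a b) = hm L (MonoidAlgebra L Γ) (rp a).asModule (rp b).asModule :=
  ((eqv a b).trans (Representation.IntertwiningMap.equivLinearMapAsModule _ _)).finrank_eq

end La1

variable {Γ ι L : Type*} [Group Γ] [Finite Γ] [Fintype ι] [DecidableEq ι] [Field L]

theorem conj_iff_finrank (hL : (Nat.card Γ : L) ≠ 0) (a b : Γ →* Matrix ι ι L) :
    (∃ g : GL ι L, ∀ γ, (g : Matrix ι ι L) * a γ = b γ * g) ↔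
      finrank L (Hm a a) + finrank L (Hm b b) = finrank L (Hm a b) + finrank L (Hm b a) := by
  have : NeZero (Nat.card Γ : L) := ⟨hL⟩
  let E := fun a b : Γ →* Matrix ι ι L =>
    (La1.eqv a b).trans (Representation.IntertwiningMap.equivLinearMapAsModule (La1.rp a) (La1.rp b))
  simp only [La1.finrank_Hm]
  constructor
  · rintro ⟨g, hg⟩
    have e : (La1.rp a).asModule ≃ₗ[MonoidAlgebra L Γ] (La1.rp b).asModule :=
      LinearEquiv.ofBijective (E a b ⟨g, hg⟩) (Matrix.toLinearEquiv' (g : Matrix ι ι L) g.invertible).bijective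
    rw [La1.hm_congr e e, La1.hm_congr e (.refl _ _), La1.hm_congr (.refl _ _) e]
  · intro h
    obtain ⟨e⟩ := La1.key L (MonoidAlgebra L Γ) _ _ _ (Nat.lt_succ_self _) h
    obtain ⟨X, hX⟩ := (E a b).surjective e
    have hu : IsUnit X.1 := by
      rw [← Matrix.mulVec_injective_iff_isUnit]
      intro v w k
      exact e.injective ((LinearMap.congr_fun hX v).symm.trans (k.trans (LinearMap.congr_fun hX w)))
    exact ⟨hu.unit, X.2⟩

end Cfsg.Agent.F5
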