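import Mathlib
import Cfsg.Agent.F5.Defs

/-! The intertwining numbers do not depend on the residue field (see stubs/Cfsg/Agent/F5/PLAN.md) -/

set_option autoImplicit false
set_option linter.unusedSectionVars false

namespace Cfsg.Agent.F5

open Subgroup

open Module

namespace La2

section Field

variable {K M : Type*} [Field K] [AddCommGroup M] [Module K M] [FiniteDimensional K M]

theorem ker_eq (φ : End K M) (μ : K) {c : K} (hc : c ≠ 0) (h : (φ - μ • 1) * (φ - μ • 1) = c • (φ - μ • 1)) :
    finrank K (LinearMap.ker (φ - μ • 1)) = φ.charpoly.rootMultiplicity μ := by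
  suffices e : LinearMap.ker (φ - μ • 1) = φ.maxGenEigenspace μ by rw [e, φ.finrank_maxGenEigenspace_eq]
  ext x
  rw [End.mem_maxGenEigenspace, LinearMap.mem_ker]
  generalize φ - μ • 1 = ψ at h
  refine ⟨fun e => ⟨1, by rwa [pow_one]⟩, ?_⟩
  rintro ⟨k, e⟩
  induction k generalizing x with
  | zero => rw [show x = 0 from e, map_zero]
  | succ k ih =>
    have := ih (ψ x) (by rwa [pow_succ] at e)
    rw [← End.mul_apply, h, LinearMap.smul_apply] at this
    exact (smul_eq_zero.1 this).resolve_left hc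

theorem two (φ : End K M) {m : K} (hm : m ≠ 0) (h : φ * φ = m • φ) :
    finrank K (LinearMap.ker (φ - m • 1)) = φ.charpoly.rootMultiplicity m ∧
      φ.charpoly.rootMultiplicity m + φ.charpoly.rootMultiplicity 0 = finrank K M := by
  have h1 := ker_eq φ m (neg_ne_zero.2 hm) (by
    rw [sub_mul, mul_sub, h, smul_mul_assoc, mul_smul_comm, mul_one, one_mul, sub_self, zero_sub, neg_smul])
  have h0 := ker_eq φ 0 hm (by simpa using h)
  have e : LinearMap.ker (φ - m • 1) = LinearMap.range φ := by
    ext x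
    rw [LinearMap.mem_ker, LinearMap.sub_apply, sub_eq_zero, LinearMap.smul_apply, End.one_apply]
    constructor
    · exact fun e => ⟨m⁻¹ • x, by rw [map_smul, e, inv_smul_smul₀ hm]⟩
    · rintro ⟨y, rfl⟩
      rw [← End.mul_apply, h, LinearMap.smul_apply]
  refine ⟨h1, ?_⟩
  rw [← h1, ← h0, e, zero_smul, sub_zero, LinearMap.finrank_range_add_finrank_ker]

end Field

variable {Γ ι S K : Type*} [Group Γ] [Fintype Γ] [Fintype ι] [DecidableEq ι] [CommRing S] [Field K]

/-- The averaging operator. -/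
noncomputable def av (a b : Γ →* Matrix ι ι S) : End S (Matrix ι ι S) :=
  ∑ γ, LinearMap.mulLeftRight S (b γ, a γ⁻¹)

theorem av_apply (a b : Γ →* Matrix ι ι S) (X : Matrix ι ι S) : av a b X = ∑ γ, b γ * X * a γ⁻¹ := by
  simp [av]

theorem av_mem (a b : Γ →* Matrix ι ι K) (X : Matrix ι ι K) : av a b X ∈ Hm a b := fun δ => by
  rw [av_apply, Finset.sum_mul, Finset.mul_sum, ← Equiv.sum_comp (Equiv.mulLeft δ)]
  refine Finset.sum_congr rfl fun γ _ => ?_
  rw [Equiv.coe_mulLeft, mul_assoc, ← map_mul, mul_inv_rev, inv_mul_cancel_right, map_mul]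
  simp only [mul_assoc]

theorem av_of_mem {a b : Γ →* Matrix ι ι K} {X : Matrix ι ι K} (h : X ∈ Hm a b) :
    av a b X = (Fintype.card Γ : K) • X := by
  rw [av_apply, Finset.sum_congr rfl fun γ _ => show b γ * X * a γ⁻¹ = X by
    rw [← h γ, mul_assoc, ← map_mul, mul_inv_cancel, map_one, mul_one]]
  simp [Nat.cast_smul_eq_nsmul]

theorem Hm_eq (a b : Γ →* Matrix ι ι K) (hm : (Fintype.card Γ : K) ≠ 0) :
    Hm a b = LinearMap.ker (av a b - (Fintype.card Γ : K) • 1) := by
  ext X
  rw [LinearMap.mem_ker, LinearMap.sub_apply, sub_eq_zero, LinearMap.smul_apply, End.one_apply]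
  exact ⟨av_of_mem, fun e => ((Hm a b).smul_mem_iff hm).1 (e ▸ av_mem a b X)⟩

theorem repr_std (X : Matrix ι ι S) (p : ι × ι) : (Matrix.stdBasis S ι ι).repr X p = X p.1 p.2 := by
  simp [Matrix.stdBasis]

theorem charpoly_mp (g : S →+* K) (a b : Γ →* Matrix ι ι S) :
    (av (mp g a) (mp g b)).charpoly = (av a b).charpoly.map g := by
  rw [← LinearMap.charpoly_toMatrix _ (Matrix.stdBasis K ι ι), ← LinearMap.charpoly_toMatrix _ (Matrix.stdBasis S ι ι),
    ← Matrix.charpoly_map]
  congr 1
  ext p ⟨i, j⟩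
  rw [Matrix.map_apply, LinearMap.toMatrix_apply, LinearMap.toMatrix_apply, repr_std, repr_std,
    Matrix.stdBasis_eq_single, Matrix.stdBasis_eq_single, av_apply, av_apply, Matrix.sum_apply, Matrix.sum_apply, map_sum]
  refine Finset.sum_congr rfl fun γ _ => ?_
  rw [← Matrix.map_apply (f := g), Matrix.map_mul, Matrix.map_mul, Matrix.map_single, map_one]
  rfl

theorem key (g : S →+* K) (hm : (Fintype.card Γ : K) ≠ 0) (a b : Γ →* Matrix ι ι S) :
    finrank K (Hm (mp g a) (mp g b)) = ((av a b).charpoly.map g).rootMultiplicity (g (Fintype.card Γ)) ∧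
      ((av a b).charpoly.map g).rootMultiplicity (g (Fintype.card Γ)) +
        ((av a b).charpoly.map g).rootMultiplicity (g 0) = Fintype.card ι * Fintype.card ι := by
  have := two (av (mp g a) (mp g b)) hm (LinearMap.ext fun X => av_of_mem (av_mem _ _ X))
  rwa [← Hm_eq _ _ hm, charpoly_mp, finrank_matrix, finrank_self, mul_one, ← map_natCast g, ← map_zero g] at this

theorem key' [IsDomain S] (g : S →+* K) (hm : (Fintype.card Γ : K) ≠ 0) (a b : Γ →* Matrix ι ι S) :
    finrank K (Hm (mp g a) (mp g b)) = (av a b).charpoly.rootMultiplicity (Fintype.card Γ : S) := by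
  have hi := IsFractionRing.injective S (FractionRing S)
  have h0 := (key (algebraMap S (FractionRing S)) (fun e => hm (by
    rw [← map_natCast g, hi ((map_natCast _ _).trans (e.trans (map_zero _).symm)), map_zero])) a b).2
  rw [← Polynomial.eq_rootMultiplicity_map hi, ← Polynomial.eq_rootMultiplicity_map hi] at h0
  obtain ⟨h1, h2⟩ := key g hm a b
  have hne := ((av a b).charpoly_monic.map g).ne_zero
  have h3 := Polynomial.le_rootMultiplicity_map hne (Fintype.card Γ : S)
  have h4 := Polynomial.le_rootMultiplicity_map hne 0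
  omega

end La2

variable {Γ ι L L' R : Type*} [Group Γ] [Finite Γ] [Fintype ι] [DecidableEq ι] [Field L] [Field L']
  [CommRing R] [IsDomain R]

theorem finrank_Hm_mp (f : R →+* L) (f' : R →+* L') (hL : (Nat.card Γ : L) ≠ 0)
    (hL' : (Nat.card Γ : L') ≠ 0) (a b : Γ →* Matrix ι ι R) :
    finrank L (Hm (mp f a) (mp f b)) = finrank L' (Hm (mp f' a) (mp f' b)) := by
  have := Fintype.ofFinite Γ
  rw [Nat.card_eq_fintype_card] at hL hL'
  rw [La2.key' f hL, La2.key' f' hL']

end Cfsg.Agent.F5
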