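import Mathlib
import Cfsg.Agent.F5.Defs
import Cfsg.Agent.F5.La1
import Cfsg.Agent.F5.La2
import Cfsg.Agent.F5.Fe

/-! The monomial model. -/

set_option autoImplicit false
set_option linter.unusedSectionVars false

namespace Cfsg.Agent.F5

open Subgroup

section

variable {Γ ι L L' R : Type*} [Group Γ] [Finite Γ] [Fintype ι] [DecidableEq ι] [Field L] [Field L']
  [CommRing R] [IsDomain R]

theorem conj_mp_iff (f : R →+* L) (f' : R →+* L') (hL : (Nat.card Γ : L) ≠ 0)
    (hL' : (Nat.card Γ : L') ≠ 0) (a b : Γ →* Matrix ι ι R) :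
    (∃ g : GL ι L, ∀ γ, (g : Matrix ι ι L) * (a γ).map f = (b γ).map f * g) ↔
      ∃ g : GL ι L', ∀ γ, (g : Matrix ι ι L') * (a γ).map f' = (b γ).map f' * g := by
  refine (conj_iff_finrank hL (mp f a) (mp f b)).trans (Iff.trans ?_ (conj_iff_finrank hL' (mp f' a) (mp f' b)).symm)
  rw [finrank_Hm_mp f f' hL hL' a a, finrank_Hm_mp f f' hL hL' b b, finrank_Hm_mp f f' hL hL' a b,
    finrank_Hm_mp f f' hL hL' b a]

end

variable {n M : ℕ} {K K' : Type*} [Field K] [Field K'] {ψ : AddChar (ZMod (2 ^ M)) K}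
  {ψ' : AddChar (ZMod (2 ^ M)) K'}

namespace Mo

theorem psi_ne (x : ZMod (2 ^ M)) : ψ x ≠ 0 := fun h => by
  have := ψ.map_add_eq_mul x (-x)
  rw [add_neg_cancel, ψ.map_zero_eq_one, h, zero_mul] at this
  exact one_ne_zero this

theorem psi_pow (x : ZMod (2 ^ M)) : ψ x = ψ 1 ^ x.val := by
  rw [← ψ.map_nsmul_eq_pow, nsmul_one, ZMod.natCast_zmod_val]

theorem prim (h : Function.Injective ψ) : IsPrimitiveRoot (ψ 1) (2 ^ M) := by
  refine IsPrimitiveRoot.mk_of_lt _ (by positivity) ?_ fun l l0 hl e => ?_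
  · rw [← ψ.map_nsmul_eq_pow, nsmul_one, ZMod.natCast_self, ψ.map_zero_eq_one]
  · rw [← ψ.map_nsmul_eq_pow, nsmul_one, ← ψ.map_zero_eq_one] at e
    exact absurd (Nat.le_of_dvd l0 ((ZMod.natCast_eq_zero_iff _ _).1 (h e))) (not_le.2 hl)

/-- The ring generated by a primitive root of unity. -/
abbrev RR (M : ℕ) : Type := AdjoinRoot (Polynomial.cyclotomic (2 ^ M) ℤ)

instance (M : ℕ) : IsDomain (RR M) :=
  AdjoinRoot.isDomain_of_prime (Polynomial.cyclotomic.irreducible (by positivity)).prime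

theorem root_pow (M : ℕ) : (AdjoinRoot.root _ : RR M) ^ 2 ^ M = 1 := by
  have := AdjoinRoot.mk_eq_zero.2 (Polynomial.cyclotomic.dvd_X_pow_sub_one (2 ^ M) ℤ)
  rwa [map_sub, map_pow, AdjoinRoot.mk_X, map_one, sub_eq_zero] at this

/-- The universal character. -/
noncomputable def ψR (M : ℕ) : AddChar (ZMod (2 ^ M)) (RR M) := AddChar.zmodChar (2 ^ M) (root_pow M)

theorem exists_lift (h : Function.Injective ψ) : ∃ f : RR M →+* K, ∀ m : Mon n (2 ^ M),
    (monM (ψR M) m).map f = monM ψ m := by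
  have h1 := (prim h).isRoot_cyclotomic (by positivity)
  rw [← Polynomial.map_cyclotomic_int, Polynomial.IsRoot.def, Polynomial.eval_map] at h1
  refine ⟨AdjoinRoot.lift _ _ h1, fun m => Matrix.ext fun j i => ?_⟩
  rw [Matrix.map_apply, monM_apply, monM_apply, apply_ite (AdjoinRoot.lift _ _ h1), map_zero, ψR,
    AddChar.zmodChar_apply, map_pow, AdjoinRoot.lift_root, ← psi_pow]

theorem cj_iff {U : Subgroup (Mon n (2 ^ M))} (Γ : Subgroup (U × U)) {f : RR M →+* K}
    (hf : ∀ m : Mon n (2 ^ M), (monM (ψR M) m).map f = monM ψ m) :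
    Cj ((mon ψ).comp U.subtype) Γ ↔ ∃ g : GL (Fin n) K, ∀ γ : Γ,
      (g : Matrix (Fin n) (Fin n) K) *
        ((((monM (ψR M)).comp U.subtype).comp ((MonoidHom.fst U U).comp Γ.subtype)) γ).map f =
      ((((monM (ψR M)).comp U.subtype).comp ((MonoidHom.snd U U).comp Γ.subtype)) γ).map f * g := by
  refine exists_congr fun g => Iff.symm (Subtype.forall.trans (forall₂_congr fun p _ => ?_))
  rw [eq_mul_inv_iff_mul_eq, eq_comm, Units.ext_iff]
  simp only [MonoidHom.comp_apply, hf]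
  rfl

end Mo

open Mo

theorem psi_hf (hM : 1 ≤ M) (h : Function.Injective ψ) : ψ (hf M) = -1 := by
  have h1 : ψ (hf M) * ψ (hf M) = 1 := by rw [← ψ.map_add_eq_mul, hf_add_hf, ψ.map_zero_eq_one]
  refine (mul_self_eq_one_iff.1 h1).resolve_left fun e => ?_
  have h2 : ((2 ^ (M - 1) : ℕ) : ZMod (2 ^ M)) = 0 := by
    push_cast
    exact h (e.trans ψ.map_zero_eq_one.symm)
  have := (Nat.pow_dvd_pow_iff_le_right (by norm_num)).1 ((ZMod.natCast_eq_zero_iff _ _).1 h2)
  omega

theorem det_monM (hM : 1 ≤ M) (h : Function.Injective ψ) (m : Mon n (2 ^ M)) :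
    (monM ψ m).det = ψ (dg m) := by
  have e : monM ψ m = (Matrix.diagonal fun i => ψ (m.d i)).submatrix (m.s⁻¹ : Equiv.Perm (Fin n)) id :=
    Matrix.ext fun j i => by
      rw [monM_apply, Matrix.submatrix_apply, Matrix.diagonal_apply, id]
      by_cases e : j = m.s i
      · subst e; simp
      · rw [if_neg e, if_neg fun e' => e (by rw [← e']; simp)]
  have e' : ∀ s : Finset (Fin n), ψ (∑ i ∈ s, m.d i) = ∏ i ∈ s, ψ (m.d i) := fun s => by
    induction s using Finset.induction_on with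
    | empty => simp
    | insert a s ha ih => rw [Finset.sum_insert ha, Finset.prod_insert ha, ψ.map_add_eq_mul, ih]
  rw [e, Matrix.det_permute, Matrix.det_diagonal, dg, ψ.map_add_eq_mul, e', Equiv.Perm.sign_inv, mul_comm]
  rcases Int.units_eq_one_or (Equiv.Perm.sign m.s) with h1 | h1 <;> simp [h1, psi_hf hM h]

theorem monM_injective (h : Function.Injective ψ) :
    Function.Injective (monM ψ : Mon n (2 ^ M) → Matrix (Fin n) (Fin n) K) := fun a b e => by
  have k : ∀ i, a.s i = b.s i ∧ a.d i = b.d i := fun i => by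
    have := congrFun (congrFun e (a.s i)) i
    rw [monM_apply, monM_apply, if_pos rfl] at this
    split_ifs at this with h1
    exacts [⟨h1, h this⟩, (psi_ne _ this).elim]
  exact Mon.ext (funext fun i => (k i).2) (Equiv.ext fun i => (k i).1)

theorem mon_injective (h : Function.Injective ψ) :
    Function.Injective (mon ψ : Mon n (2 ^ M) → GL (Fin n) K) := fun _ _ e =>
  monM_injective h (congrArg Units.val e)

theorem monM_scalar_iff (h : Function.Injective ψ) (m : Mon n (2 ^ M)) :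
    (∃ l : K, monM ψ m = l • 1) ↔ Sc m := by
  constructor
  · rintro ⟨l, e⟩
    have k : ∀ i, m.s i = i ∧ ψ (m.d i) = l := fun i => by
      have := congrFun (congrFun e (m.s i)) i
      rw [monM_apply, if_pos rfl, Matrix.smul_apply, Matrix.one_apply] at this
      split_ifs at this with h1
      · exact ⟨h1, by simpa using this⟩
      · exact (psi_ne _ (by simpa using this)).elim
    exact ⟨Equiv.ext fun i => (k i).1, fun i j => h ((k i).2.trans (k j).2.symm)⟩
  · rintro ⟨h1, h2⟩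
    rcases n with _ | n
    · exact ⟨1, Subsingleton.elim _ _⟩
    · refine ⟨ψ (m.d 0), Matrix.ext fun j i => ?_⟩
      rw [monM_apply, h1, h2 i 0, Matrix.smul_apply, Matrix.one_apply]
      by_cases e : j = i <;> simp [e]

theorem same_mon (hM : 1 ≤ M) (h2 : (2 : K) ≠ 0) (h2' : (2 : K') ≠ 0) (h : Function.Injective ψ)
    (h' : Function.Injective ψ') {U : Subgroup (Mon n (2 ^ M))} (hU : IsPGroup 2 U) :
    Same ((mon ψ).comp U.subtype) ((mon ψ').comp U.subtype) := by
  have _ := hM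
  refine Same.of_subgroup fun Γ => ?_
  obtain ⟨f, hf⟩ := exists_lift (n := n) h
  obtain ⟨f', hf'⟩ := exists_lift (n := n) h'
  obtain ⟨k, hk⟩ := hU.exists_card_eq
  have hd := card_subgroup_dvd_card Γ
  rw [Nat.card_prod, hk, ← pow_add] at hd
  obtain ⟨l, -, hl⟩ := (Nat.dvd_prime_pow Nat.prime_two).1 hd
  rw [cj_iff Γ hf, cj_iff Γ hf']
  exact conj_mp_iff f f' (by rw [hl]; push_cast; exact pow_ne_zero _ h2) (by rw [hl]; push_cast; exact pow_ne_zero _ h2') _ _

end Cfsg.Agent.F5
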