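import Mathlib
import Cfsg.Agent.F5.Mo
import Cfsg.Agent.F5.CdT
import Cfsg.Agent.F5.Al

/-! Groups of the same type have the same 2-fusion system. -/

set_option autoImplicit false
set_option linter.unusedSectionVars false

namespace Cfsg.Agent.F5

open Subgroup

variable {n M : ℕ} {b : Bool} {K : Type} [Field K] {G : Subgroup (GL (Fin n) K)} {Λ : Subgroup Kˣ}
  {ψ : AddChar (ZMod (2 ^ M)) K}

theorem Tw.finite (h : Tw n M b G Λ ψ) : Finite (GL (Fin n) K) :=
  have := h.fin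
  inferInstance

theorem Tw.al_injective (h : Tw n M b G Λ ψ) : Function.Injective h.al := fun _ _ e =>
  Subtype.ext (mon_injective h.inj (congrArg Subtype.val e))

theorem Tw.sy_al (h : Tw n M b G Λ ψ) : Sy h.al :=
  have := h.finite
  sy_of_card (by
    rw [h.card, ← card_T h.hn h.hM]
    exact (Nat.card_congr (MonoidHom.ofInjective h.al_injective).toEquiv).symm)

theorem Tw.al_mem_center (h : Tw n M b G Λ ψ) (m : T n M b) :
    h.al m ∈ center (G0 G) ↔ Sc (m : Mon n (2 ^ M)) := by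
  rw [← monM_scalar_iff h.inj]
  refine ⟨h.cen _, fun ⟨l, hl⟩ => mem_center_iff.2 fun g => Subtype.ext (Units.ext ?_)⟩
  change (g : GL (Fin n) K).1 * monM ψ (m : Mon n (2 ^ M)) = monM ψ (m : Mon n (2 ^ M)) * (g : GL (Fin n) K).1
  rw [hl, mul_smul_comm, smul_mul_assoc, mul_one, one_mul]

theorem Tw.rl (h : Tw n M b G Λ ψ) : Rl n M b h.ab :=
  have := h.finite
  ⟨h.sy_al.quot, fun m => (QuotientGroup.eq_one_iff _).trans (h.al_mem_center m)⟩

namespace EqA

theorem pi_fix (hn : n % 2 = 1) {i : Fin n} : pi n i = i ↔ i.1 = n - 1 := by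
  have := i.2
  rw [pi_apply, Fin.ext_iff, piF_val]
  split_ifs <;> omega

theorem exists_det (h : Tw n M b G Λ ψ) {l : Kˣ} (hl : l ∈ Λ) (ho : Odd (orderOf l)) :
    ∃ c ∈ G, Matrix.GeneralLinearGroup.det c = l ∧ ∀ m ∈ T n M b, c * mon ψ m = mon ψ m * c := by
  rcases Nat.mod_two_eq_zero_or_one n with hn | hn
  · obtain ⟨k, hk⟩ := exists_pow_eq_self_of_coprime (x := l) (n := n) (by
      have h1 := Nat.coprime_two_left.2 ho
      obtain rfl | rfl : n = 2 ∨ n = 4 := by have := h.hn; omega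
      exacts [h1, Nat.Coprime.pow_left 2 h1])
    have h1 : (((l ^ k : Kˣ) : K) • (1 : Matrix (Fin n) (Fin n) K)).det = l := by
      rw [Matrix.det_smul, Matrix.det_one, mul_one, Fintype.card_fin, ← Units.val_pow_eq_pow_val, ← pow_mul, mul_comm,
        pow_mul, hk]
    refine ⟨Matrix.GeneralLinearGroup.mkOfDetNeZero _ (h1.trans_ne l.ne_zero), h.scal _ (pow_mem hl k) _ rfl, Units.ext h1,
      fun m _ => Units.ext ?_⟩
    change ((l ^ k : Kˣ) : K) • (1 : Matrix (Fin n) (Fin n) K) * monM ψ m = monM ψ m * ((l ^ k : Kˣ) : K) • 1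
    rw [mul_smul_comm, smul_mul_assoc, mul_one, one_mul]
  · obtain ⟨i, hi⟩ : ∃ i : Fin n, pi n i = i := ⟨⟨n - 1, by omega⟩, (pi_fix hn).2 rfl⟩
    have h1 : (Matrix.diagonal (Function.update 1 i (l : K))).det = l := by
      rw [Matrix.det_diagonal, Finset.prod_update_of_mem (Finset.mem_univ i)]
      simp
    refine ⟨Matrix.GeneralLinearGroup.mkOfDetNeZero _ (h1.trans_ne l.ne_zero), h.diag l hl i (by cases b; exacts [hi, rfl]) _ rfl,
      Units.ext h1, fun m hm => Units.ext ?_⟩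
    have h2 : m.s i = i := Fin.ext (((pi_fix hn).1 (by
      rw [← Equiv.Perm.mul_apply, ← hm.1, Equiv.Perm.mul_apply, hi])).trans ((pi_fix hn).1 hi).symm)
    change Matrix.diagonal (Function.update 1 i (l : K)) * monM ψ m = monM ψ m * Matrix.diagonal _
    ext j k
    rw [Matrix.diagonal_mul, Matrix.mul_diagonal, monM_apply, mul_comm]
    split_ifs with e
    · subst e
      by_cases e : k = i
      · rw [e, h2]
      · rw [Function.update_of_ne e, Function.update_of_ne fun e' => e (m.s.injective (e'.trans h2.symm))]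
        rfl
    · rw [zero_mul, zero_mul]

theorem same_incl (h : Tw n M b G Λ ψ) :
    Same ((inclusion (inf_le_left : G0 G ≤ G)).comp h.al) ((mon ψ).comp (T n M b).subtype) :=
  Same.of_subgroup fun Γ => ⟨fun ⟨g, hg⟩ => ⟨g, fun p hp => congrArg Subtype.val (hg p hp)⟩, fun ⟨g, hg⟩ => by
    have h1 : IsPGroup 2 (T n M b × T n M b) :=
      IsPGroup.of_card (by rw [Nat.card_prod, card_T h.hn h.hM, ← pow_add])
    obtain ⟨g', h2, h3⟩ := h.ctl Γ (h1.to_subgroup Γ)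
      (((mon ψ).comp (T n M b).subtype).comp ((MonoidHom.fst _ _).comp Γ.subtype))
      (((mon ψ).comp (T n M b).subtype).comp ((MonoidHom.snd _ _).comp Γ.subtype))
      (fun γ => (h.mem _ γ.1.1.2).1) (fun γ => (h.mem _ γ.1.2.2).1) ⟨g, fun γ => hg γ γ.2⟩
    exact ⟨⟨g', h2⟩, fun p hp => Subtype.ext (h3 ⟨p, hp⟩)⟩⟩

end EqA

theorem Tw.odd (h : Tw n M b G Λ ψ) {g : GL (Fin n) K} (hg : g ∈ G) (ho : Odd (orderOf g)) :
    ∃ a ∈ G0 G, ∀ m ∈ T n M b, a * mon ψ m * a⁻¹ = g * mon ψ m * g⁻¹ := by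
  obtain ⟨c, h1, h2, h3⟩ := EqA.exists_det h (h.det g hg) (ho.of_dvd_nat (orderOf_map_dvd _ g))
  refine ⟨g * c⁻¹, mem_inf.2 ⟨mul_mem hg (inv_mem h1), by
    rw [MonoidHom.mem_ker, map_mul, map_inv, h2, mul_inv_cancel]⟩, fun m hm => ?_⟩
  calc _ = g * (c⁻¹ * (mon ψ m * c)) * g⁻¹ := by group
    _ = _ := by rw [← h3 m hm, inv_mul_cancel_left]

theorem EqA.odd_incl (h : Tw n M b G Λ ψ) (g : G) (ho : Odd (orderOf g)) : ∃ a : G0 G, ∀ t,
    inclusion (inf_le_left : G0 G ≤ G) a * inclusion inf_le_left (h.al t) * (inclusion inf_le_left a)⁻¹ =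
      g * inclusion inf_le_left (h.al t) * g⁻¹ := by
  obtain ⟨a, h1, h2⟩ := h.odd g.2 (by rwa [orderOf_coe])
  exact ⟨⟨a, h1⟩, fun t => Subtype.ext (h2 t t.2)⟩

variable {X Y : Type*} [Group X] [Group Y]

theorem IsTw.hn (h : IsTw n M b X) : 2 ≤ n ∧ n ≤ 5 := by
  obtain ⟨K, _, G, Λ, ψ, h, -⟩ := h
  exact h.hn

theorem IsTw.hM (h : IsTw n M b X) : 3 ≤ M := by
  obtain ⟨K, _, G, Λ, ψ, h, -⟩ := h
  exact h.hM

theorem IsTw.finite (h : IsTw n M b X) : Finite X := by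
  obtain ⟨K, _, G, Λ, ψ, h, ⟨e⟩⟩ := h
  have := h.finite
  exact Finite.of_equiv _ e.symm.toEquiv

theorem IsTw.of_equiv (h : IsTw n M b X) (e : Y ≃* X) : IsTw n M b Y := by
  obtain ⟨K, _, G, Λ, ψ, h, ⟨e'⟩⟩ := h
  exact ⟨K, _, G, Λ, ψ, h, ⟨e.trans e'⟩⟩

theorem IsTw.exists_rl (h : IsTw n M b X) : ∃ α : T n M b →* X, Rl n M b α := by
  obtain ⟨K, _, G, Λ, ψ, h, ⟨e⟩⟩ := h
  exact ⟨e.symm.toMonoidHom.comp h.ab, h.rl.1.equiv e.symm, fun m => e.symm.map_eq_one_iff.trans (h.rl.2 m)⟩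

theorem IsTw.val (h : IsTw n M b X) : padicValNat 2 (Nat.card X) = exT n M b - exZ n b := by
  have := h.finite
  obtain ⟨α, hα⟩ := h.exists_rl
  exact Nat.pow_right_injective le_rfl (hα.1.card.symm.trans (hα.card h.hn h.hM))

theorem IsTw.fe (h : IsTw n M b X) (h' : IsTw n M b Y) : FE X Y := by
  have := h.finite
  have := h'.finite
  obtain ⟨K, _, G, Λ, ψ, h, ⟨e⟩⟩ := h
  obtain ⟨K', _, G', Λ', ψ', h', ⟨e'⟩⟩ := h'
  have := h.finite
  have := h'.finite
  have h1 := same_sub h.sy_al h.al_injective h'.sy_al h'.al_injective (inclusion_injective _) (inclusion_injective _)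
    (((EqA.same_incl h).trans (same_mon (by have := h.hM; omega) h.two h'.two h.inj h'.inj
      (isPGroup_T h.hn h.hM))).trans (EqA.same_incl h').symm) (EqA.odd_incl h) (EqA.odd_incl h')
  exact ((FE.of_equiv e).trans (FE.mk' h.rl.1 h'.rl.1 (same_quot h.sy_al h'.sy_al h1 fun t =>
    (h.al_mem_center t).trans (h'.al_mem_center t).symm))).trans (FE.of_equiv e'.symm)

end Cfsg.Agent.F5
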