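import Mathlib
import Cfsg.Agent.F5.Defs
import Cfsg.Prelude.Def_Spor_Mathieu
import Cfsg.Prelude.Def_Spor_Conway
import Cfsg.Agent.GT.PiGroups
import Cfsg.Agent.GT.Conj
import Cfsg.Agent.Spor.MB.Cent
import Cfsg.Agent.S2132

/-! The other simple groups with Sylow 2-subgroups of type `L₄(q)` (see stubs/Cfsg/Agent/F5/PLAN.md) -/

set_option autoImplicit false
set_option linter.unusedSectionVars false

namespace Cfsg.Agent.F5

open Subgroup

variable {G H : Type*} [Group G] [Group H]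

namespace Ex

/-- An automorphism of order three of the quaternion group. -/
def tf : Q8 → Q8
  | .a i => qb ^ i.val
  | .xa i => qa * qb * qb ^ i.val

theorem tf_mul : ∀ x y, tf (x * y) = tf x * tf y := by decide +kernel
theorem tf_three : ∀ x, tf (tf (tf x)) = x := by decide +kernel
theorem q_gen : ∀ u : Q8, ∃ i j : Fin 4, u = qa ^ i.val * qb ^ j.val := by decide +kernel

/-- `tf` as a homomorphism. -/
def τ : Q8 →* Q8 := MonoidHom.mk' tf tf_mul

theorem hom_ext {f g : Q8 × Q8 →* G} (h1 : f (qa, 1) = g (qa, 1)) (h2 : f (qb, 1) = g (qb, 1))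
    (h3 : f (1, qa) = g (1, qa)) (h4 : f (1, qb) = g (1, qb)) (w : Q8 × Q8) : f w = g w := by
  obtain ⟨u, v⟩ := w
  obtain ⟨i, j, rfl⟩ := q_gen u
  obtain ⟨k, l, rfl⟩ := q_gen v
  have : (qa ^ i.val * qb ^ j.val, qa ^ k.val * qb ^ l.val) =
      (qa, 1) ^ i.val * (qb, 1) ^ j.val * ((1, qa) ^ k.val * (1, qb) ^ l.val) := by simp
  simp only [this, map_mul, map_pow, h1, h2, h3, h4]

/-- The data of `QC`. -/
structure Qd (γ : Q8 × Q8 →* G) (g1 g2 : G) : Prop where
  one : γ (qa * qa, qa * qa) = 1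
  ne : γ (qa * qa, 1) ≠ 1
  h1 : ∀ u v, g1 * γ (u, v) * g1⁻¹ = γ (tf u, v)
  h2 : ∀ u v, g2 * γ (u, v) * g2⁻¹ = γ (u, tf v)

theorem exists_qd (h : QC G) : ∃ (γ : Q8 × Q8 →* G) (g1 g2 : G), Qd γ g1 g2 := by
  obtain ⟨γ, h0, h0', ⟨g1, h1⟩, ⟨g2, h2⟩⟩ := h
  simp only [Set.mem_insert_iff, Set.mem_singleton_iff, forall_eq_or_imp, forall_eq] at h1 h2
  refine ⟨γ, g1, g2, h0, h0', fun u v => ?_, fun u v => ?_⟩
  · exact hom_ext (f := (MulAut.conj g1).toMonoidHom.comp γ) (g := γ.comp (τ.prodMap (MonoidHom.id _)))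
      h1.1.symm h1.2.1.symm h1.2.2.1.symm h1.2.2.2.symm (u, v)
  · exact hom_ext (f := (MulAut.conj g2).toMonoidHom.comp γ) (g := γ.comp ((MonoidHom.id _).prodMap τ))
      h2.2.2.1.symm h2.2.2.2.symm h2.1.symm h2.2.1.symm (u, v)

namespace Qd

variable {γ : Q8 × Q8 →* G} {g1 g2 : G} (h : Qd γ g1 g2)
include h

theorem sq : γ (qa * qa, 1) * γ (qa * qa, 1) = 1 := by
  rw [← map_mul, show ((qa * qa, 1) * (qa * qa, 1) : Q8 × Q8) = 1 by decide, map_one]

theorem ord : orderOf (γ (qa * qa, 1)) = 2 := orderOf_eq_prime (by rw [pow_two, h.sq]) h.ne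

theorem ne' : γ (1, qa * qa) ≠ 1 := fun e => h.ne (by
  rw [← h.one, show ((qa * qa, qa * qa) : Q8 × Q8) = (qa * qa, 1) * (1, qa * qa) by simp, map_mul, e, mul_one])

theorem cγ (w : Q8 × Q8) : γ w ∈ centralizer {γ (qa * qa, 1)} := by
  rw [mem_centralizer_singleton_iff, ← map_mul, ← map_mul]
  congr 1
  revert w; decide +kernel

theorem c1 : g1 ∈ centralizer {γ (qa * qa, 1)} :=
  mem_centralizer_singleton_iff.2 (mul_inv_eq_iff_eq_mul.1 (h.h1 _ _))

theorem c2 : g2 ∈ centralizer {γ (qa * qa, 1)} :=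
  mem_centralizer_singleton_iff.2 (mul_inv_eq_iff_eq_mul.1 (h.h2 _ _))

theorem nine [Finite G] : 9 ∣ Nat.card (centralizer {γ (qa * qa, 1)}) := by
  have nrm : ∀ g : G, (∀ w, ∃ w', γ w' = g * γ w * g⁻¹) → g ∈ normalizer (γ.range : Set G) := fun g hg =>
    mem_normalizer_fintype (by rintro _ ⟨w, rfl⟩; exact hg w)
  let N := centralizer {γ (qa * qa, 1)} ⊓ normalizer (γ.range : Set G)
  let φ : N →* MulAut γ.range := (normalizerMonoidHom γ.range).comp (inclusion inf_le_right)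
  have φe : ∀ (g : N) (q : γ.range), (φ g q : G) = g * q * (g : G)⁻¹ := fun _ _ => rfl
  let a1 := φ ⟨g1, h.c1, nrm g1 fun w => ⟨_, (h.h1 w.1 w.2).symm⟩⟩
  let a2 := φ ⟨g2, h.c2, nrm g2 fun w => ⟨_, (h.h2 w.1 w.2).symm⟩⟩
  have e1 : ∀ u v, a1 (γ.rangeRestrict (u, v)) = γ.rangeRestrict (tf u, v) := fun u v => Subtype.ext (h.h1 u v)
  have e2 : ∀ u v, a2 (γ.rangeRestrict (u, v)) = γ.rangeRestrict (u, tf v) := fun u v => Subtype.ext (h.h2 u v)
  have ext : ∀ a b : MulAut γ.range, (∀ u v, a (γ.rangeRestrict (u, v)) = b (γ.rangeRestrict (u, v))) → a = b :=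
    fun a b e => MulEquiv.ext fun q => by
      obtain ⟨w, rfl⟩ := γ.rangeRestrict_surjective q
      exact e w.1 w.2
  have o1 : orderOf a1 = 3 := orderOf_eq_prime (ext _ _ fun u v => by
      simp only [pow_three, MulAut.mul_apply, e1, tf_three, MulAut.one_apply]) fun e => h.ne (by
    have := congrArg Subtype.val (e1 qa 1)
    rw [e] at this
    change γ (qa, 1) = γ (tf qa, 1) at this
    rw [show ((qa * qa, 1) : Q8 × Q8) = ((qa, 1) * (tf qa, 1)⁻¹) ^ 2 by decide, map_pow, map_mul, map_inv, this,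
      mul_inv_cancel, one_pow])
  have o2 : orderOf a2 = 3 := orderOf_eq_prime (ext _ _ fun u v => by
      simp only [pow_three, MulAut.mul_apply, e2, tf_three, MulAut.one_apply]) fun e => h.ne' (by
    have := congrArg Subtype.val (e2 1 qa)
    rw [e] at this
    change γ (1, qa) = γ (1, tf qa) at this
    rw [show ((1, qa * qa) : Q8 × Q8) = ((1, qa) * (1, tf qa)⁻¹) ^ 2 by decide, map_pow, map_mul, map_inv, this,
      mul_inv_cancel, one_pow])
  have cm : Commute a1 a2 := ext _ _ fun u v => by simp only [MulAut.mul_apply, e1, e2]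
  have card : Nat.card (zpowers a1 ⊔ zpowers a2 : Subgroup _) = 9 := by
    rw [GT.card_sup_of_inf_eq_bot, Nat.card_zpowers, Nat.card_zpowers, o1, o2]
    · refine zpowers_le.2 (mem_normalizer_fintype ?_)
      rintro _ ⟨n, rfl⟩
      exact ⟨n, by simp only [(cm.zpow_right n).eq, mul_inv_cancel_right]⟩
    · rw [eq_bot_iff]
      intro x hx
      refine ext _ _ fun u v => ?_
      have k1 : x ∈ MulAction.stabilizer _ (γ.rangeRestrict (1, v)) := (zpowers_le.2 (e1 1 v) : _ ≤ _) hx.1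
      have k2 : x ∈ MulAction.stabilizer _ (γ.rangeRestrict (u, 1)) := (zpowers_le.2 (e2 u 1) : _ ≤ _) hx.2
      rw [show ((u, v) : Q8 × Q8) = (u, 1) * (1, v) by simp, map_mul, map_mul]
      exact congrArg₂ (· * ·) k2 k1
  rw [← card]
  exact ((card_dvd_of_le (sup_le (zpowers_le.2 ⟨_, rfl⟩) (zpowers_le.2 ⟨_, rfl⟩) : _ ≤ φ.range)).trans
    (card_range_dvd φ)).trans (card_dvd_of_le inf_le_left)

theorem push (ρ : centralizer {γ (qa * qa, 1)} →* H) (hρ : ρ ⟨_, h.cγ (qa * qa, 1)⟩ ≠ 1) :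
    Qd (ρ.comp (γ.codRestrict _ h.cγ)) (ρ ⟨g1, h.c1⟩) (ρ ⟨g2, h.c2⟩) := by
  refine ⟨?_, hρ, fun u v => ?_, fun u v => ?_⟩
  · rw [MonoidHom.comp_apply, show γ.codRestrict _ h.cγ (qa * qa, qa * qa) = 1 from Subtype.ext h.one, map_one]
  · simp only [MonoidHom.comp_apply, ← map_mul, ← map_inv]
    exact congrArg ρ (Subtype.ext (h.h1 u v))
  · simp only [MonoidHom.comp_apply, ← map_mul, ← map_inv]
    exact congrArg ρ (Subtype.ext (h.h2 u v))

end Qd

theorem not_nine {β : Type*} [Fintype β] [DecidableEq β] (hβ : Fintype.card β ≤ 11) {z : Equiv.Perm β}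
    (h2 : orderOf z = 2) (hz : ∀ x, z x ≠ x) : ¬ 9 ∣ Nat.card (centralizer {z}) := by
  obtain ⟨n, hn⟩ := Equiv.Perm.cycleType_prime_order (σ := z) (by rw [h2]; exact Nat.prime_two)
  have hs := z.sum_cycleType
  rw [Finset.eq_univ_of_forall fun x => Equiv.Perm.mem_support.2 (hz x), Finset.card_univ] at hs
  rw [Equiv.Perm.nat_card_centralizer, hs, Nat.sub_self]
  rw [hn, h2] at hs ⊢
  simp only [Multiset.sum_replicate, smul_eq_mul] at hs
  have : n < 5 := by omega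
  interval_cases n <;> decide

theorem not_qc_perm {α : Type*} [Fintype α] [DecidableEq α] (hα : Fintype.card α ≤ 11) : ¬ QC (Equiv.Perm α) := by
  intro h
  obtain ⟨γ, g1, g2, h⟩ := exists_qd h
  have k : ∀ g : centralizer {γ (qa * qa, 1)}, ∀ x, γ (qa * qa, 1) (g.1 x) ≠ g.1 x ↔ γ (qa * qa, 1) x ≠ x := fun g x => by
    rw [← Equiv.Perm.mul_apply, ← mem_centralizer_singleton_iff.1 g.2, Equiv.Perm.mul_apply, g.1.injective.ne_iff]
  let ρ : centralizer {γ (qa * qa, 1)} →* Equiv.Perm {x // γ (qa * qa, 1) x ≠ x} :=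
    MonoidHom.mk' (fun g => g.1.subtypePerm (k g)) fun _ _ => Equiv.ext fun _ => rfl
  have hz : ∀ x, ρ ⟨_, h.cγ (qa * qa, 1)⟩ x ≠ x := fun x e => x.2 (congrArg Subtype.val e)
  obtain ⟨x, hx⟩ : ∃ x, γ (qa * qa, 1) x ≠ x := by
    by_contra! e
    exact h.ne (Equiv.ext e)
  have h' := h.push ρ fun e => hz ⟨x, hx⟩ (by rw [e]; rfl)
  exact not_nine ((Fintype.card_subtype_le _).trans hα) h'.ord hz h'.nine

theorem idx2 (f : G ≃* H) {L : Subgroup G} (h : L.index = 2) : ∃ L' : Subgroup H, L'.index = 2 :=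
  ⟨L.comap f.symm.toMonoidHom, (index_comap_of_surjective _ f.symm.surjective).trans h⟩

/-- Transport of a centraliser. -/
noncomputable def cenEquiv (e : G ≃* H) (z : G) : centralizer ({z} : Set G) ≃* centralizer ({e z} : Set H) :=
  (e.subgroupMap _).trans (MulEquiv.subgroupCongr (GT.centralizer_singleton_equiv z e).symm)

theorem no_two (h : IsNonsplitDoubleCover G (alternatingGroup (Fin 8))) (L : Subgroup G) : L.index ≠ 2 := by
  obtain ⟨c2, ⟨e⟩, hn⟩ := h
  intro hL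
  have := normal_of_index_eq_two hL
  by_cases hc : center G ≤ L
  · have : IsSimpleGroup (alternatingGroup (Fin 8)) := alternatingGroup.isSimpleGroup (by simp)
    obtain ⟨L', hL'⟩ := idx2 e ((index_map_eq L (QuotientGroup.mk'_surjective _) (by rwa [QuotientGroup.ker_mk'])).trans hL)
    rcases (normal_of_index_eq_two hL').eq_bot_or_eq_top with rfl | rfl
    · rw [index_bot, Nat.card_eq_fintype_card, card_alternatingGroup] at hL'
      simp [Nat.factorial] at hL'
    · simp at hL'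
  · have : Finite (center G) := Nat.finite_of_card_ne_zero (by omega)
    have : Finite (G ⧸ center G) := Finite.of_equiv _ e.symm.toEquiv
    have : Finite G := Finite.of_subgroup_quotient (center G)
    refine hn L (isComplement'_of_card_mul_and_disjoint (by rw [c2, ← hL, index_mul_card]) ?_)
    have : Fact (Nat.card (center G)).Prime := ⟨c2 ▸ Nat.prime_two⟩
    rcases (L.subgroupOf (center G)).eq_bot_or_eq_top_of_prime_card with k | k
    · exact (subgroupOf_eq_bot.1 k).symm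
    · exact absurd (subgroupOf_eq_top.1 k) hc

end Ex

theorem QC.map (h : QC G) (f : G →* H) (hf : Function.Injective f) : QC H := by
  obtain ⟨γ, h0, h0', ⟨g1, h1⟩, ⟨g2, h2⟩⟩ := h
  refine ⟨f.comp γ, by rw [MonoidHom.comp_apply, h0, map_one], fun e => h0' (hf (e.trans (map_one f).symm)),
    ⟨f g1, fun p hp => ?_⟩, ⟨f g2, fun p hp => ?_⟩⟩
  · simp only [MonoidHom.comp_apply, h1 p hp, map_mul, map_inv]
  · simp only [MonoidHom.comp_apply, h2 p hp, map_mul, map_inv]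

theorem FC.equiv (h : FC G) (e : G ≃* H) : FC H := by
  obtain ⟨z, h1, h2, L, hL⟩ := h
  refine ⟨e z, (e.orderOf_eq z).trans h1, ?_, Ex.idx2 (Ex.cenEquiv e z) hL⟩
  rwa [GT.centralizer_singleton_equiv, index_map_of_bijective e.bijective]

theorem not_qc_a11 : ¬ QC (alternatingGroup (Fin 11)) := fun h =>
  Ex.not_qc_perm (by simp) (h.map _ (subtype_injective _))

theorem not_qc_a10 : ¬ QC (alternatingGroup (Fin 10)) := fun h =>
  Ex.not_qc_perm (by simp) (h.map _ (subtype_injective _))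

theorem not_qc_m23 : ¬ QC Cfsg.Spor.M23 := fun h => by
  obtain ⟨γ, g1, g2, h⟩ := Ex.exists_qd h
  have h9 := h.nine
  have ho := h.ord
  generalize γ (qa * qa, 1) = z at h9 ho
  obtain ⟨k, hk, e⟩ := Spor.MB.conj_zA_of_card z.2.1 ((orderOf_coe z).trans ho)
    (Finset.card_ne_zero.2 ⟨none, Spor.MB.mem_fixSet.2 z.2.2⟩)
  have c := Spor.MB.card_CZ_conj hk Spor.MB.zA
  rw [e, Spor.MB.card_CZ_zA] at c
  have le : (centralizer {z}).map (Subgroup.subtype _) ≤ Spor.MB.CZ z := by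
    rintro _ ⟨g, hg, rfl⟩
    exact Spor.MB.mem_CZ.2 ⟨g.2.1, congrArg Subtype.val (mem_centralizer_singleton_iff.1 hg)⟩
  have d := card_dvd_of_le le
  rw [card_map_of_injective (subtype_injective _), c] at d
  exact absurd (h9.trans d) (by norm_num)

theorem not_qc_m22 : ¬ QC Cfsg.Spor.M22 := fun h =>
  not_qc_m23 (h.map (inclusion (inf_le_left : Cfsg.Spor.M22 ≤ Cfsg.Spor.M23)) (inclusion_injective _))

theorem not_fc_mcl : ¬ FC Cfsg.Spor.McL := by
  rintro ⟨z, h1, -, L, hL⟩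
  obtain ⟨hc, t, ht, h⟩ := S2132.result
  obtain ⟨g, rfl⟩ := isConj_iff.1 (hc z t h1 ht)
  obtain ⟨L', hL'⟩ := Ex.idx2 (Ex.cenEquiv (MulAut.conj g) z) hL
  exact Ex.no_two h L' hL'

end Cfsg.Agent.F5
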