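import Mathlib
import Cfsg.Agent.F5.Fe
import Cfsg.Agent.Loc.CFTransfer

/-! Invariants of the 2-fusion system. -/

set_option autoImplicit false
set_option linter.unusedSectionVars false

namespace Cfsg.Agent.F5

open Subgroup

variable {G H : Type*} [Group G] [Group H] [Finite G] [Finite H]

namespace Inv

theorem inj {P : Type*} [Group P] {γ : P →* G} {δ : P →* H} (h : Same γ δ)
    (hγ : Function.Injective γ) : Function.Injective δ :=
  (injective_iff_map_eq_one δ).2 fun x hx => hγ (by rw [(h.eq_one x).2 hx, map_one])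

theorem idx2 {C : Type*} [Group C] [Finite C] {s : C} {k : ℕ} (hs : s ^ 2 ^ k = 1)
    (hc : s ∉ commutator C) : ∃ L : Subgroup C, L.index = 2 := by
  have : Finite (Abelianization C) := Quotient.finite _
  obtain ⟨r, m, hm, e⟩ := Nat.exists_eq_two_pow_mul_odd (Nat.card_pos (α := Abelianization C)).ne'
  let φ : C →* Abelianization C := (powMonoidHom m).comp Abelianization.of
  have h2 : IsPGroup 2 φ.range := by
    rintro ⟨_, g, rfl⟩
    refine ⟨r, Subtype.ext ?_⟩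
    show (Abelianization.of g ^ m) ^ 2 ^ r = 1
    rw [← pow_mul, mul_comm, ← e, pow_card_eq_one']
  obtain ⟨n, hn⟩ := h2.exists_card_eq
  have hs1 : φ s ≠ 1 := fun h1 => hc (by
    have h3 : orderOf (Abelianization.of s) ∣ m := orderOf_dvd_of_pow_eq_one h1
    have h4 : orderOf (Abelianization.of s) ∣ 2 ^ k :=
      orderOf_dvd_of_pow_eq_one (by rw [← map_pow, hs, map_one])
    have h5 := Nat.eq_one_of_dvd_coprimes
      (Nat.Coprime.pow_left k ((Nat.coprime_two_left).2 hm)) h4 h3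
    rw [← Abelianization.ker_of]
    exact orderOf_eq_one_iff.mp h5)
  rcases n with _ | n
  · rw [pow_zero, card_eq_one] at hn
    exact absurd (hn.le ⟨s, rfl⟩) hs1
  obtain ⟨K, hK⟩ := Sylow.exists_subgroup_card_pow_prime (G := φ.range) 2 (n := n)
    (by rw [hn]; exact pow_dvd_pow 2 n.le_succ)
  refine ⟨K.comap φ.rangeRestrict, ?_⟩
  rw [index_comap_of_surjective _ φ.rangeRestrict_surjective]
  have := K.card_mul_index
  rw [hK, hn, pow_succ] at this
  exact Nat.eq_of_mul_eq_mul_left (by positivity) this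

/-- the transport of a 2-central element -/
theorem cen (h : FE G H) {z : G} {k : ℕ} (hz : z ^ 2 ^ k = 1)
    (ho : Odd (centralizer ({z} : Set G)).index) :
    ∃ (T : Sylow 2 (centralizer ({z} : Set G))) (δ : (T : Subgroup (centralizer ({z} : Set G))) →* H)
      (y : (T : Subgroup (centralizer ({z} : Set G)))), ((y : centralizer ({z} : Set G)) : G) = z ∧
      Same ((centralizer ({z} : Set G)).subtype.comp (T : Subgroup _).subtype) δ ∧ Sy δ ∧
      Function.Injective δ ∧ orderOf (δ y) = orderOf z ∧ δ.range ≤ centralizer {δ y} ∧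
      Odd (centralizer ({δ y} : Set H)).index := by
  obtain ⟨T⟩ : Nonempty (Sylow 2 (centralizer ({z} : Set G))) := inferInstance
  have e : ((centralizer ({z} : Set G)).subtype.comp (T : Subgroup _).subtype).range =
      (T : Subgroup _).map (centralizer ({z} : Set G)).subtype := by
    rw [MonoidHom.range_comp, range_subtype]
  have hγ : Sy ((centralizer ({z} : Set G)).subtype.comp (T : Subgroup _).subtype) := by
    refine ⟨e ▸ T.isPGroup'.map _, ?_⟩
    rw [e, index_map_subtype]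
    exact (Nat.odd_iff.mpr (Nat.two_dvd_ne_zero.mp T.not_dvd_index)).mul ho
  obtain ⟨δ, h1, -, h2⟩ := h.tr _ hγ.1
  let z' : centralizer ({z} : Set G) := ⟨z, mem_centralizer_singleton_iff.mpr rfl⟩
  have hc : ∀ g : centralizer ({z} : Set G), g * z' = z' * g := fun g =>
    Subtype.ext (mem_centralizer_singleton_iff.mp g.2)
  have : (zpowers z').Normal := ⟨by
    rintro _ ⟨i, rfl⟩ g
    rw [(Commute.zpow_right (hc g) i).eq, mul_inv_cancel_right]
    exact ⟨i, rfl⟩⟩
  have hp : IsPGroup 2 (zpowers z') := by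
    rintro ⟨_, i, rfl⟩
    refine ⟨k, Subtype.ext (Subtype.ext ?_)⟩
    show (z ^ i) ^ 2 ^ k = 1
    rw [← zpow_natCast, ← zpow_mul, mul_comm, zpow_mul, zpow_natCast, hz, one_zpow]
  have hi : Function.Injective
      ((centralizer ({z} : Set G)).subtype.comp (T : Subgroup _).subtype) :=
    Subtype.val_injective.comp Subtype.val_injective
  have hy := hp.le_sylow_of_normal T (mem_zpowers z')
  have hle : δ.range ≤ centralizer {δ ⟨z', hy⟩} := by
    rintro _ ⟨s, rfl⟩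
    rw [mem_centralizer_singleton_iff, ← map_mul, ← map_mul]
    exact congrArg δ (Subtype.ext (hc s))
  refine ⟨T, δ, ⟨z', hy⟩, rfl, h1, h2 hγ, inj h1 hi, ?_, hle,
    (h2 hγ).2.of_dvd_nat (index_dvd_of_le hle)⟩
  rw [orderOf_injective δ (inj h1 hi), ← orderOf_injective _ hi]
  rfl

theorem fc_aux {P : Type*} [Group P] {γ : P →* G} {δ : P →* H} {y s : P} {k : ℕ} (hs : Same γ δ)
    (hδ : Sy δ) (hi : Function.Injective δ) (hle : δ.range ≤ centralizer {δ y}) {L : Subgroup P}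
    (hsL : s ∉ L) (hk : s ^ 2 ^ k = 1)
    (hL : ∀ (a b : P) (g : G), γ y = g * γ y * g⁻¹ → γ b = g * γ a * g⁻¹ → a⁻¹ * b ∈ L) :
    ∃ M : Subgroup (centralizer ({δ y} : Set H)), M.index = 2 := by
  obtain ⟨S, hS⟩ := hδ.exists_sylow
  have hN : (S : Subgroup H) ≤ centralizer {δ y} := hS.le.trans hle
  have key := Loc.CF.inf_commutator_le_of_focal (S.subtype hN)
    (D := (L.map δ).subgroupOf (centralizer {δ y})) (by
    intro x hx g hg
    obtain ⟨a, ha⟩ := hS.le (show (x : H) ∈ (S : Subgroup H) from hx)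
    obtain ⟨b, hb⟩ := hS.le (show (g : H) * x * (g : H)⁻¹ ∈ (S : Subgroup H) from hg)
    obtain ⟨g0, hg0⟩ := (hs {(y, y), (a, b)}).2 ⟨g, by
      rintro _ (rfl | rfl)
      · exact (mul_inv_eq_iff_eq_mul.mpr (mem_centralizer_singleton_iff.mp g.2)).symm
      · rw [hb, ha]⟩
    exact ⟨a⁻¹ * b, hL a b g0 (hg0 (y, y) (Or.inl rfl)) (hg0 (a, b) (Or.inr rfl)),
      by rw [map_mul, map_inv, ha, hb]; rfl⟩)
  refine idx2 (s := ⟨δ s, hle ⟨_, rfl⟩⟩) (k := k)
    (Subtype.ext (by show δ _ ^ _ = 1; rw [← map_pow, hk, map_one])) fun hc => hsL ?_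
  obtain ⟨l, hl, e⟩ := key ⟨show δ s ∈ (S : Subgroup H) from hS.ge ⟨_, rfl⟩, hc⟩
  rw [← hi e]
  exact hl

end Inv

theorem FE.pe (h : FE G H) (h' : PE G) : PE H := by
  obtain ⟨E, ⟨hc, h2⟩, h8, hE⟩ := h'
  obtain ⟨δ, h1, -, -⟩ := h.tr E.subtype (by
    rw [range_subtype]; exact IsPGroup.of_card (n := 3) h8)
  have hi := Inv.inj h1 Subtype.val_injective
  refine ⟨δ.range, ⟨⟨⟨?_⟩⟩, ?_⟩, ?_, ?_⟩
  · rintro ⟨_, a, rfl⟩ ⟨_, b, rfl⟩
    refine Subtype.ext ?_
    show δ a * δ b = δ b * δ a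
    rw [← map_mul, ← map_mul, hc.1.1 a b]
  · rintro _ ⟨a, rfl⟩
    rw [← map_pow, show a ^ 2 = 1 from Subtype.ext (h2 a a.2), map_one]
  · rw [← h8]
    exact (Nat.card_congr (MonoidHom.ofInjective hi).toEquiv).symm
  · rintro _ ⟨a, rfl⟩ _ ⟨b, rfl⟩ ha hb
    exact (h1.isConj a b).1 (hE a a.2 b b.2 (fun e => ha ((h1.eq_one a).1 e))
      fun e => hb ((h1.eq_one b).1 e))

theorem FE.zc (h : FE G H) (h' : ZC G) : ZC H := by
  obtain ⟨c, h4, ho⟩ := h'
  obtain ⟨T, δ, y, -, -, -, -, h1, -, h2⟩ := Inv.cen h (z := c) (k := 2)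
    (by rw [show 2 ^ 2 = 4 from rfl, ← h4, pow_orderOf_eq_one]) ho
  exact ⟨δ y, h1.trans h4, h2⟩

theorem FE.qc (h : FE G H) (h' : QC G) : QC H := by
  obtain ⟨γ, a1, a2, a3, a4⟩ := h'
  have hp : IsPGroup 2 (Q8 × Q8) := IsPGroup.of_card (n := 6) (by
    rw [Nat.card_prod, Nat.card_eq_fintype_card, QuaternionGroup.card]; rfl)
  obtain ⟨δ, h1, -, -⟩ := h.tr γ (hp.of_surjective _ γ.rangeRestrict_surjective)
  exact ⟨δ, (h1.eq_one _).1 a1, fun e => a2 ((h1.eq_one _).2 e), (h1 _).1 a3, (h1 _).1 a4⟩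

theorem FE.fc (h : FE G H) (h' : FC G) : FC H := by
  obtain ⟨z, h2, ho, L, hL⟩ := h'
  obtain ⟨T, δ, y, hy, hs, hδ, hi, h1, hle, h3⟩ := Inv.cen h (z := z) (k := 1)
    (by rw [pow_one, ← h2, pow_orderOf_eq_one]) ho
  refine ⟨δ y, h1.trans h2, h3, ?_⟩
  have hn := normal_of_index_eq_two hL
  obtain ⟨s, hs0, hsL⟩ : ∃ s ∈ (T : Subgroup (centralizer ({z} : Set G))), s ∉ L := by
    by_contra hc
    push Not at hc
    have := index_dvd_of_le (H := (T : Subgroup _)) (K := L) hc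
    rw [hL] at this
    exact T.not_dvd_index this
  obtain ⟨k, hk⟩ := T.isPGroup' ⟨s, hs0⟩
  refine Inv.fc_aux hs hδ hi hle (L := L.subgroupOf T) (s := ⟨s, hs0⟩) hsL hk fun a b g e1 e2 => ?_
  have e0 : z = g * z * g⁻¹ := by rw [← hy]; exact e1
  let c : centralizer ({z} : Set G) :=
    ⟨g, mem_centralizer_singleton_iff.mpr (mul_inv_eq_iff_eq_mul.mp e0.symm)⟩
  have e3 : (b : centralizer ({z} : Set G)) = c * a * c⁻¹ := Subtype.ext e2
  show (a : centralizer ({z} : Set G))⁻¹ * b ∈ L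
  rw [mul_mem_iff_of_index_two hL, inv_mem_iff, e3, hn.mem_comm_iff, inv_mul_cancel_left]

end Cfsg.Agent.F5
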