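import Mathlib
import Cfsg.Agent.F5.Defs
import Cfsg.Agent.Cl.UField
import Cfsg.Agent.Cl.ClassOrd

/-! The 2-parts of the orders; the character `ψ` -/

set_option autoImplicit false
set_option linter.unusedSectionVars false

namespace Cfsg.Agent.F5

open Subgroup

variable {n q : ℕ}

namespace Num

theorem val_odd {x : ℕ} (h : Odd x) : padicValNat 2 x = 0 :=
  padicValNat.eq_zero_of_not_dvd h.not_two_dvd_nat

theorem val_two_mod {x : ℕ} (h : x % 4 = 2) : padicValNat 2 x = 1 := by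
  have : Fact (Nat.Prime 2) := ⟨Nat.prime_two⟩
  obtain ⟨k, rfl⟩ : ∃ k, x = 2 * (2 * k + 1) := ⟨x / 4, by omega⟩
  rw [padicValNat.mul two_ne_zero (by omega), val_odd (odd_two_mul_add_one k), padicValNat.self (by norm_num)]

theorem val_sq (h1 : 1 < q) :
    padicValNat 2 (q ^ 2 - 1) = padicValNat 2 (q + 1) + padicValNat 2 (q - 1) := by
  have : Fact (Nat.Prime 2) := ⟨Nat.prime_two⟩
  rw [← padicValNat.mul (by omega) (by omega), ← Nat.sq_sub_sq, one_pow]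

theorem cast_eq_hf {x M : ℕ} (hx : x ≠ 0) (h : padicValNat 2 x + 1 = M) : (x : ZMod (2 ^ M)) = hf M := by
  have : Fact (Nat.Prime 2) := ⟨Nat.prime_two⟩
  obtain ⟨k, m, hm, rfl⟩ := Nat.exists_eq_two_pow_mul_odd hx
  rw [padicValNat.mul (by positivity) hm.pos.ne', val_odd hm, padicValNat.prime_pow, add_zero] at h
  obtain ⟨j, rfl⟩ := hm
  have h2 := hf_add_hf M
  have h3 : hf M = 2 ^ k := by rw [hf, ← h, Nat.add_sub_cancel]
  push_cast
  rw [← h3]
  linear_combination (j : ZMod (2 ^ M)) * h2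

theorem vI_odd {x : ℤ} (h : Odd x) : padicValNat 2 x.natAbs = 0 := val_odd (Int.natAbs_odd.2 h)

theorem vI_mul {x y : ℤ} (hx : x ≠ 0) (hy : y ≠ 0) :
    padicValNat 2 (x * y).natAbs = padicValNat 2 x.natAbs + padicValNat 2 y.natAbs := by
  have : Fact (Nat.Prime 2) := ⟨Nat.prime_two⟩
  rw [Int.natAbs_mul, padicValNat.mul (Int.natAbs_ne_zero.2 hx) (Int.natAbs_ne_zero.2 hy)]

theorem val_eOrd (hn : 2 ≤ n ∧ n ≤ 5) {a : ℤ} (ha : Odd a) (h1 : a ^ 2 - 1 ≠ 0) {M : ℕ} {b : Bool}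
    (hM : padicValNat 2 (a ^ 2 - 1).natAbs = M) (h0 : 1 ≤ M)
    (hu : padicValNat 2 (a - 1).natAbs = if b then M - 1 else 1) :
    padicValNat 2 (Cl.Cls.eOrd a n) = exT n M b := by
  have : Fact (Nat.Prime 2) := ⟨Nat.prime_two⟩
  have n1 : a - 1 ≠ 0 := fun h => h1 (by rw [sub_eq_zero.1 h]; norm_num)
  have o3 : Odd (a ^ 2 + a + 1) := (ha.pow.add_odd ha).add_one
  have o5 : Odd (a ^ 4 + a ^ 3 + (a ^ 2 + a + 1)) := (ha.pow.add_odd ha.pow).add_odd o3
  have ne : ∀ {x : ℤ}, Odd x → x ≠ 0 := fun h e => by rw [e] at h; exact absurd h (by decide)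
  have e3 : a ^ 3 - 1 = (a - 1) * (a ^ 2 + a + 1) := by ring
  have e4 : a ^ 4 - 1 = (a ^ 2 - 1) * (a ^ 2 + 1) := by ring
  have e5 : a ^ 5 - 1 = (a - 1) * (a ^ 4 + a ^ 3 + (a ^ 2 + a + 1)) := by ring
  have n4 : a ^ 2 + 1 ≠ 0 := by positivity
  have v3 : padicValNat 2 (a ^ 3 - 1).natAbs = padicValNat 2 (a - 1).natAbs := by
    rw [e3, vI_mul n1 (ne o3), vI_odd o3, add_zero]
  have v5 : padicValNat 2 (a ^ 5 - 1).natAbs = padicValNat 2 (a - 1).natAbs := by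
    rw [e5, vI_mul n1 (ne o5), vI_odd o5, add_zero]
  have v4 : padicValNat 2 (a ^ 4 - 1).natAbs = M + 1 := by
    rw [e4, vI_mul h1 n4, hM, val_two_mod]
    obtain ⟨k, rfl⟩ := ha
    have : (2 * k + 1) ^ 2 + 1 = 4 * (k ^ 2 + k) + 2 := by ring
    rw [this] at n4 ⊢
    have h0 : 0 ≤ k ^ 2 + k := by nlinarith [sq_nonneg (2 * k + 1)]
    generalize k ^ 2 + k = m at *
    omega
  have p2 := Int.natAbs_ne_zero.2 h1
  have p3 : (a ^ 3 - 1).natAbs ≠ 0 := Int.natAbs_ne_zero.2 (e3 ▸ mul_ne_zero n1 (ne o3))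
  have p4 : (a ^ 4 - 1).natAbs ≠ 0 := Int.natAbs_ne_zero.2 (e4 ▸ mul_ne_zero h1 n4)
  have p5 : (a ^ 5 - 1).natAbs ≠ 0 := Int.natAbs_ne_zero.2 (e5 ▸ mul_ne_zero n1 (ne o5))
  have oa : ∀ k : ℕ, Odd (a.natAbs ^ k) := fun k => (Int.natAbs_odd.2 ha).pow
  have key : ∀ k x : ℕ, x ≠ 0 → padicValNat 2 (a.natAbs ^ k * x) = padicValNat 2 x := fun k x hx => by
    rw [padicValNat.mul (oa k).pos.ne' hx, val_odd (oa k), zero_add]
  obtain ⟨h2, h5⟩ := hn
  unfold Cl.Cls.eOrd exT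
  interval_cases n <;>
    simp only [Nat.add_one_sub_one, Finset.prod_range_succ, Finset.prod_range_zero, one_mul, zero_add,
      Nat.reduceAdd]
  · rw [key _ _ p2, hM]
    cases b <;> simp <;> omega
  · rw [key _ _ (mul_ne_zero p2 p3), padicValNat.mul p2 p3, hM, v3, hu]
    cases b <;> simp <;> omega
  · rw [key _ _ (mul_ne_zero (mul_ne_zero p2 p3) p4), padicValNat.mul (mul_ne_zero p2 p3) p4,
      padicValNat.mul p2 p3, hM, v3, v4, hu]
    cases b <;> simp <;> omega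
  · rw [key _ _ (mul_ne_zero (mul_ne_zero (mul_ne_zero p2 p3) p4) p5),
      padicValNat.mul (mul_ne_zero (mul_ne_zero p2 p3) p4) p5, padicValNat.mul (mul_ne_zero p2 p3) p4,
      padicValNat.mul p2 p3, hM, v3, v4, v5, hu]
    cases b <;> simp <;> omega

theorem natAbs_sq (h : 1 ≤ q) : ((q : ℤ) ^ 2 - 1).natAbs = q ^ 2 - 1 := by
  have : 1 ≤ q ^ 2 := Nat.one_le_pow _ _ h
  rw [← Int.natAbs_natCast (q ^ 2 - 1)]
  push_cast [this]
  rfl

theorem sq_ne (h : 1 < q) : (q : ℤ) ^ 2 - 1 ≠ 0 := by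
  have : (2 : ℤ) ≤ q := by exact_mod_cast h
  nlinarith

end Num

open Num

theorem three_le_val (hq : Odd q) (h1 : q ≠ 1) : 3 ≤ padicValNat 2 (q ^ 2 - 1) := by
  have : Fact (Nat.Prime 2) := ⟨Nat.prime_two⟩
  obtain ⟨k, rfl⟩ := hq
  have e : (2 * k + 1) ^ 2 - 1 = 4 * (k * (k + 1)) := by
    rw [show (2 * k + 1) ^ 2 = 4 * (k * (k + 1)) + 1 by ring, Nat.add_sub_cancel]
  have hk : 0 < k := by omega
  rw [e, ← padicValNat_dvd_iff_le (by positivity)]
  obtain ⟨m, hm⟩ := Nat.even_mul_succ_self k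
  exact ⟨m, by rw [hm]; ring⟩

theorem val_of_one (h1 : q ≠ 1) (h4 : q % 4 = 1) :
    padicValNat 2 (q - 1) + 1 = padicValNat 2 (q ^ 2 - 1) ∧ padicValNat 2 (q + 1) = 1 := by
  have h := val_two_mod (x := q + 1) (by omega)
  exact ⟨by rw [val_sq (by omega), h, add_comm], h⟩

theorem val_of_three (h4 : q % 4 = 3) :
    padicValNat 2 (q + 1) + 1 = padicValNat 2 (q ^ 2 - 1) ∧ padicValNat 2 (q - 1) = 1 := by
  have h := val_two_mod (x := q - 1) (by omega)
  exact ⟨by rw [val_sq (by omega), h], h⟩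

theorem cast_eq_ee (hq : Odd q) (h1 : q ≠ 1) :
    (q : ZMod (2 ^ padicValNat 2 (q ^ 2 - 1))) = ee _ (decide (q % 4 = 1)) := by
  have h2 := Nat.odd_iff.1 hq
  by_cases h4 : q % 4 = 1
  · have h := cast_eq_hf (by omega) (val_of_one h1 h4).1
    rw [Nat.cast_sub (by omega), Nat.cast_one] at h
    rw [ee, ← h, decide_eq_true h4, if_pos rfl]
    ring
  · have h := cast_eq_hf (by omega) (val_of_three (q := q) (by omega)).1
    rw [Nat.cast_add, Nat.cast_one] at h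
    rw [ee, ← h, decide_eq_false h4, if_neg Bool.false_ne_true]
    ring

theorem neg_cast_eq_ee (hq : Odd q) (h1 : q ≠ 1) :
    -(q : ZMod (2 ^ padicValNat 2 (q ^ 2 - 1))) = ee _ (decide (q % 4 = 3)) := by
  have h2 := Nat.odd_iff.1 hq
  have h3 := hf_add_hf (padicValNat 2 (q ^ 2 - 1))
  rw [cast_eq_ee hq h1, ee, ee]
  by_cases h4 : q % 4 = 1
  · rw [decide_eq_true h4, decide_eq_false (show ¬ q % 4 = 3 by omega), if_pos rfl, if_neg Bool.false_ne_true]
    linear_combination -h3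
  · rw [decide_eq_false h4, decide_eq_true (show q % 4 = 3 by omega), if_pos rfl, if_neg Bool.false_ne_true]
    linear_combination -h3

theorem ee_mul_ee {M : ℕ} (hM : 2 ≤ M) (b : Bool) : ee M b * ee M b = 1 := by
  have h := hf_add_hf M
  have h2 : hf M = 2 * 2 ^ (M - 2) := by rw [hf, ← pow_succ', show M - 2 + 1 = M - 1 by omega]
  have h3 : hf M * hf M = 0 := by
    nth_rewrite 2 [h2]
    linear_combination (2 : ZMod (2 ^ M)) ^ (M - 2) * h
  cases b
  · rw [ee, if_neg Bool.false_ne_true]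
    linear_combination h3 - h
  · rw [ee, if_pos rfl]
    linear_combination h3 + h

theorem exists_psi {K : Type*} [Field K] {σ : K →+* K} (h : Cl.UField σ q) :
    ∃ ψ : AddChar (ZMod (2 ^ padicValNat 2 (q ^ 2 - 1))) K, Function.Injective ψ ∧
      ∀ x, σ (ψ x) = ψ (q * x) := by
  have := h.finite
  set N := 2 ^ padicValNat 2 (q ^ 2 - 1) with hN
  have hd : N ∣ q ^ 2 - 1 := pow_padicValNat_dvd
  obtain ⟨g, hg⟩ := IsCyclic.exists_ofOrder_eq_natCard (α := Kˣ)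
  rw [Nat.card_units, h.card] at hg
  have h1 : orderOf (g ^ (orderOf g / N)) = N := orderOf_pow_orderOf_div (orderOf_pos g).ne' (hg ▸ hd)
  have h2 : IsPrimitiveRoot ((g ^ (orderOf g / N) : Kˣ) : K) N :=
    IsPrimitiveRoot.coe_units_iff.2 (by
      have := IsPrimitiveRoot.orderOf (g ^ (orderOf g / N))
      rwa [h1] at this)
  refine ⟨AddChar.zmodChar N h2.pow_eq_one, fun x y e => ?_, fun x => ?_⟩
  · rw [AddChar.zmodChar_apply, AddChar.zmodChar_apply] at e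
    exact ZMod.val_injective N (h2.pow_inj (ZMod.val_lt x) (ZMod.val_lt y) e)
  · rw [h.pow, ← AddChar.map_nsmul_eq_pow, nsmul_eq_mul]

theorem val_card_SL (hn : 2 ≤ n ∧ n ≤ 5) {F : Type*} [Field F] [Fintype F] (hF : Fintype.card F = q)
    (hq : Odd q) : padicValNat 2 (Nat.card (Matrix.SpecialLinearGroup (Fin n) F)) =
      exT n (padicValNat 2 (q ^ 2 - 1)) (decide (q % 4 = 1)) := by
  have h1 : 1 < q := hF ▸ Fintype.one_lt_card
  have h2 := Nat.odd_iff.1 hq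
  have h3 := three_le_val hq h1.ne'
  rw [Cl.Cls.card_SL_eq, hF]
  refine val_eOrd hn (by exact_mod_cast hq) (sq_ne h1) (by rw [natAbs_sq h1.le]) (by omega) ?_
  rw [show ((q : ℤ) - 1).natAbs = q - 1 by omega]
  by_cases h4 : q % 4 = 1
  · rw [decide_eq_true h4, if_pos rfl, ← (val_of_one h1.ne' h4).1, Nat.add_sub_cancel]
  · rw [decide_eq_false h4, if_neg Bool.false_ne_true, (val_of_three (q := q) (by omega)).2]

theorem val_card_SU (hn : 2 ≤ n ∧ n ≤ 5) {K : Type*} [Field K] {σ : K →+* K} (h : Cl.UField σ q)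
    (hq : Odd q) : padicValNat 2 (Nat.card (Cfsg.SU n K q)) =
      exT n (padicValNat 2 (q ^ 2 - 1)) (decide (q % 4 = 3)) := by
  have h1 : 1 < q := h.two_le
  have h2 := Nat.odd_iff.1 hq
  have h3 := three_le_val hq h1.ne'
  rw [Cl.Cls.card_SU_eq h (by omega)]
  refine val_eOrd hn (Odd.neg (by exact_mod_cast hq)) (by rw [neg_sq]; exact sq_ne h1)
    (by rw [neg_sq, natAbs_sq h1.le]) (by omega) ?_
  rw [show (-(q : ℤ) - 1).natAbs = q + 1 by omega]
  by_cases h4 : q % 4 = 3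
  · rw [decide_eq_true h4, if_pos rfl, ← (val_of_three h4).1, Nat.add_sub_cancel]
  · rw [decide_eq_false h4, if_neg Bool.false_ne_true, (val_of_one h1.ne' (by omega)).2]

end Cfsg.Agent.F5
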