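import Mathlib
import Cfsg.Agent.F5.Eq
import Cfsg.Agent.Cl.ClassDiag
import Cfsg.Agent.GT.PGroupElemAb

/-! Pure elementary abelian subgroups of order eight for `n = 4`. -/

set_option autoImplicit false
set_option linter.unusedSectionVars false

namespace Cfsg.Agent.F5

open Subgroup

namespace Pe

section Grp

variable {X Y : Type*} [Group X] [Group Y]

theorem pe_map (h : PE X) (f : X →* Y) (hf : Function.Injective f) : PE Y := by
  obtain ⟨E, h1, h2, h3⟩ := h
  refine ⟨E.map f, h1.map f, by rw [card_map_of_injective hf, h2], ?_⟩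
  rintro _ ⟨u, hu, rfl⟩ _ ⟨v, hv, rfl⟩ n1 n2
  exact f.map_isConj (h3 u hu v hv (fun k => n1 (by rw [k, map_one])) fun k => n2 (by rw [k, map_one]))

theorem mem_zp {a x : X} (h : a * a = 1) (hx : x ∈ zpowers a) : x = 1 ∨ x = a := by
  obtain ⟨k, rfl⟩ := hx
  have h2 : a ^ (2 : ℤ) = 1 := by rw [zpow_two, h]
  rcases Int.even_or_odd' k with ⟨j, rfl | rfl⟩
  · exact .inl (by simp only [zpow_mul, h2, one_zpow])
  · exact .inr (by simp only [zpow_add, zpow_mul, h2, one_zpow, zpow_one, one_mul])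

theorem comm_of {a c : X} (ha : a * a = 1) (hc : c * c = 1) (h : a * c * (a * c) = 1) : Commute a c := by
  have := inv_eq_of_mul_eq_one_left h
  rw [mul_inv_rev, inv_eq_of_mul_eq_one_left ha, inv_eq_of_mul_eq_one_left hc] at this
  exact this.symm

theorem step {U : Subgroup X} {a : X} (hU : IsElementaryAbelian 2 U) (ha : a * a = 1)
    (hc : ∀ u ∈ U, Commute u a) (hn : a ∉ U) :
    IsElementaryAbelian 2 (U ⊔ zpowers a : Subgroup X) ∧
      Nat.card (U ⊔ zpowers a : Subgroup X) = 2 * Nat.card U ∧ ∀ x ∈ U ⊔ zpowers a, x ∈ U ∨ ∃ u ∈ U, x = u * a := by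
  have h2 : a ^ 2 = 1 := by rw [pow_two, ha]
  have hc' : a ∈ centralizer (U : Set X) := fun u hu => hc u hu
  refine ⟨hU.sup_zpowers h2 hc', GT.PG.card_sup_zpowers Nat.prime_two (centralizer_le_normalizer _ hc') hn
    (h2 ▸ one_mem _), fun x hx => ?_⟩
  obtain ⟨u, hu, v, hv, rfl⟩ := (GT.PG.mem_sup_of_le_normalizer (zpowers_le.2
    (centralizer_le_normalizer _ hc'))).1 hx
  rcases mem_zp ha hv with rfl | rfl
  · exact .inl (by rwa [mul_one])
  · exact .inr ⟨u, hu, rfl⟩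

theorem pe_of {a b c : X} (hb : b * b = 1) (b1 : b ≠ 1) (h1 : IsConj b a) (h2 : IsConj b (b * a))
    (h3 : IsConj b c) (h4 : IsConj b (b * c)) (h5 : IsConj b (a * c)) (h6 : IsConj b (b * a * c)) : PE X := by
  have sq : ∀ u, IsConj b u → u * u = 1 := fun u hu => by
    obtain ⟨g, rfl⟩ := isConj_iff.1 hu
    calc _ = g * (b * b) * g⁻¹ := by group
      _ = 1 := by rw [hb]; group
  have ne : ∀ u, IsConj b u → u ≠ 1 := fun u hu k => b1 (isConj_one_left.1 (k ▸ hu))
  have l1 : ∀ x ∈ zpowers b, x = 1 ∨ x = b := fun x => mem_zp hb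
  have ba := comm_of hb (sq _ h1) (sq _ h2)
  have bc := comm_of hb (sq _ h3) (sq _ h4)
  have ac := comm_of (sq _ h1) (sq _ h3) (sq _ h5)
  obtain ⟨e2, c2, m2⟩ := step (IsElementaryAbelian.zpowers (x := b) (by rw [pow_two, hb])) (sq _ h1)
    (fun u hu => by rcases l1 u hu with rfl | rfl; exacts [Commute.one_left _, ba])
    (fun k => (l1 a k).elim (ne _ h1) fun l => ne _ h2 (by rw [l, hb]))
  have l2 : ∀ x ∈ zpowers b ⊔ zpowers a, x = 1 ∨ x = b ∨ x = a ∨ x = b * a := fun x hx => by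
    rcases m2 x hx with k | ⟨u, k, rfl⟩
    · rcases l1 x k with rfl | rfl <;> simp
    · rcases l1 u k with rfl | rfl <;> simp
  obtain ⟨e3, c3, m3⟩ := step e2 (sq _ h3)
    (fun u hu => by
      rcases l2 u hu with rfl | rfl | rfl | rfl
      exacts [Commute.one_left _, bc, ac, bc.mul_left ac])
    (fun k => by
      rcases l2 c k with l | l | l | l
      exacts [ne _ h3 l, ne _ h4 (by rw [l, hb]), ne _ h5 (by rw [l, ← l, sq _ h3]),
        ne _ h6 (by rw [← l, sq _ h3])])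
  have l3 : ∀ x ∈ zpowers b ⊔ zpowers a ⊔ zpowers c, x ≠ 1 → IsConj b x := fun x hx n => by
    rcases m3 x hx with k | ⟨u, k, rfl⟩
    · rcases l2 x k with rfl | rfl | rfl | rfl
      exacts [absurd rfl n, IsConj.refl _, h1, h2]
    · rcases l2 u k with rfl | rfl | rfl | rfl
      exacts [by rwa [one_mul], h4, h5, h6]
  refine ⟨_, e3, ?_, fun u hu v hv n1 n2 => (l3 u hu n1).symm.trans (l3 v hv n2)⟩
  rw [c3, c2, Nat.card_zpowers, orderOf_eq_prime (p := 2) (by rw [pow_two, hb]) b1]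

theorem exists_ne {E : Subgroup X} (h : Nat.card E = 8) (a b c d : X) :
    ∃ e ∈ E, e ≠ a ∧ e ≠ b ∧ e ≠ c ∧ e ≠ d := by
  by_contra hn
  push Not at hn
  have hs : (E : Set X) ⊆ {a, b, c, d} := fun e he => by
    by_contra k
    simp only [Set.mem_insert_iff, Set.mem_singleton_iff, not_or] at k
    exact k.2.2.2 (hn e he k.1 k.2.1 k.2.2.1)
  have h1 := Set.ncard_le_ncard hs (Set.toFinite _)
  have h2 := Set.ncard_insert_le a ({b, c, d} : Set X)
  have h3 := Set.ncard_insert_le b ({c, d} : Set X)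
  have h4 := Set.ncard_insert_le c ({d} : Set X)
  rw [Set.ncard_singleton] at h4
  have : (E : Set X).ncard = 8 := h
  omega

end Grp

variable {M : ℕ} {K : Type} [Field K] {G : Subgroup (GL (Fin 4) K)} {Λ : Subgroup Kˣ}
  {ψ : AddChar (ZMod (2 ^ M)) K} {b : Bool}

/-- Diagonal sign elements. -/
def dm (M : ℕ) (ε : Fin 4 → Bool) : Mon 4 (2 ^ M) := ⟨fun i => if ε i then hf M else 0, 1⟩

theorem monM_diag {m : Mon 4 (2 ^ M)} (h : m.s = 1) : monM ψ m = Matrix.diagonal fun i => ψ (m.d i) := by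
  ext j i
  rw [monM_apply, h, Matrix.diagonal_apply]
  split_ifs with h1 h2 h2
  · rw [h2]
  · exact absurd h1 h2
  · exact absurd h2 h1
  · rfl

theorem pat : ∀ ε : Fin 4 → Bool, (∃ σ : Equiv.Perm (Fin 4), ∀ i, ε (σ i) = ![true, true, false, false] i) ∨
    (∀ i, ε i = ε 0) ∨ ∏ i, (if ε i then (-1 : ℤ) else 1) = -1 := by decide

theorem conj_gl (hM : 1 ≤ M) (h2 : (2 : K) ≠ 0) (hψ : Function.Injective ψ) {A : GL (Fin 4) K} (hA : A * A = 1)
    (hd : (A : Matrix (Fin 4) (Fin 4) K).det = 1) (hs : ¬ ∃ l : K, (A : Matrix (Fin 4) (Fin 4) K) = l • 1) :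
    IsConj (mon ψ (dm M ![true, true, false, false])) A := by
  classical
  have n1 : (1 : K) ≠ -1 := fun k => h2 (by linear_combination k)
  have hA' : (A : Matrix (Fin 4) (Fin 4) K) * A = 1 := congrArg Units.val hA
  obtain ⟨g, hg⟩ := Cl.Cls.exists_conj_diagonal (fun _ : Unit => (A : Matrix (Fin 4) (Fin 4) K))
    (fun _ _ => Commute.refl _) fun _ => ⟨{1, -1}, by
      rw [Finset.prod_pair n1]
      simp only [map_mul, map_sub, map_add, Polynomial.aeval_X, map_one, map_neg, sub_neg_eq_add]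
      rw [sub_mul, mul_add, hA', mul_one, one_mul, add_comm, sub_self]⟩
  obtain ⟨d, hd'⟩ := hg ()
  have gi : (g : Matrix (Fin 4) (Fin 4) K) * (g⁻¹ : GL (Fin 4) K) = 1 := g.mul_inv
  have ig : ((g⁻¹ : GL (Fin 4) K) : Matrix (Fin 4) (Fin 4) K) * g = 1 := g.inv_mul
  have dd : ∀ i, d i = 1 ∨ d i = -1 := fun i => by
    have : Matrix.diagonal d * Matrix.diagonal d = 1 := by
      rw [← hd']
      calc _ = (g⁻¹ : GL (Fin 4) K) * ((A : Matrix (Fin 4) (Fin 4) K) * ((g : Matrix (Fin 4) (Fin 4) K) *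
            (g⁻¹ : GL (Fin 4) K)) * A) * (g : Matrix (Fin 4) (Fin 4) K) := by simp only [mul_assoc]
        _ = 1 := by rw [gi, mul_one, hA', mul_one, ig]
    rw [Matrix.diagonal_mul_diagonal, ← Matrix.diagonal_one, Matrix.diagonal_eq_diagonal_iff] at this
    exact mul_self_eq_one_iff.1 (this i)
  let ε : Fin 4 → Bool := fun i => decide (d i = -1)
  have de : ∀ i, d i = if ε i then -1 else 1 := fun i => by
    rcases dd i with k | k <;> simp [ε, k, n1]
  have e1 : g⁻¹ * A * g = mon ψ (dm M ε) := Units.ext (by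
    rw [Units.val_mul, Units.val_mul, hd', coe_mon, monM_diag rfl]
    congr 1
    funext i
    rw [de i, dm]
    dsimp only
    split_ifs
    · exact (psi_hf hM hψ).symm
    · exact ψ.map_zero_eq_one.symm)
  rcases pat ε with ⟨σ, hσ⟩ | h | h
  · have e2 : dm M ε = (⟨0, σ⟩ : Mon 4 (2 ^ M)) * dm M ![true, true, false, false] * (⟨0, σ⟩ : Mon 4 (2 ^ M))⁻¹ :=
      Mon.ext (funext fun i => by simp [dm, ← hσ]) (by simp [dm])
    refine isConj_iff.2 ⟨g * mon ψ ⟨0, σ⟩, ?_⟩
    rw [e2, map_mul, map_mul, map_inv] at e1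
    calc _ = g * (mon ψ ⟨0, σ⟩ * mon ψ (dm M ![true, true, false, false]) * (mon ψ ⟨0, σ⟩)⁻¹) * g⁻¹ := by group
      _ = A := by rw [← e1]; group
  · refine (hs ⟨d 0, ?_⟩).elim
    have : Matrix.diagonal d = d 0 • (1 : Matrix (Fin 4) (Fin 4) K) := by
      rw [Matrix.smul_one_eq_diagonal]
      congr 1
      funext i
      rw [de i, de 0, h i]
    calc (A : Matrix (Fin 4) (Fin 4) K) = ((g : Matrix (Fin 4) (Fin 4) K) * (g⁻¹ : GL (Fin 4) K)) * A *
          ((g : Matrix (Fin 4) (Fin 4) K) * (g⁻¹ : GL (Fin 4) K)) := by rw [gi, one_mul, mul_one]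
      _ = g * (((g⁻¹ : GL (Fin 4) K) : Matrix (Fin 4) (Fin 4) K) * A * g) * (g⁻¹ : GL (Fin 4) K) := by
        simp only [mul_assoc]
      _ = _ := by rw [hd', this, mul_smul_comm, mul_one, smul_mul_assoc, gi]
  · exfalso
    have k := congrArg Matrix.det hd'
    rw [Matrix.det_mul, Matrix.det_mul, hd, mul_one, ← Matrix.det_mul, ig, Matrix.det_one, Matrix.det_diagonal,
      Finset.prod_congr rfl fun i _ => de i] at k
    have := congrArg (Int.cast : ℤ → K) h
    push_cast at this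
    exact n1 (k.trans this)

theorem conj_al (h : Tw 4 M true G Λ ψ) {D u : T 4 M true} (hD : D.1 = dm M ![true, true, false, false])
    (hu : u * u = 1) (hs : ¬ Sc u.1) : IsConj (h.ab D) (h.ab u) := by
  have hM : 1 ≤ M := by have := h.hM; omega
  have := h.finite
  obtain ⟨g, hg⟩ := isConj_iff.1 (conj_gl hM h.two h.inj (A := mon ψ u.1)
    (by rw [← map_mul, ← coe_mul, hu, coe_one, map_one])
    (by rw [coe_mon, det_monM hM h.inj, u.2.2.2, ψ.map_zero_eq_one])
    (fun k => hs ((monM_scalar_iff h.inj _).1 k)))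
  rw [← hD] at hg
  have DD : mon ψ D.1 * mon ψ D.1 = 1 := by
    have : g * (mon ψ D.1 * mon ψ D.1) * g⁻¹ = 1 := by
      rw [← conj_mul, hg, ← map_mul, ← coe_mul, hu, coe_one, map_one]
    simpa using this
  obtain ⟨g', gG, hg'⟩ := h.ctl (zpowers (mon ψ D.1))
    (IsElementaryAbelian.zpowers (by rw [pow_two, DD])).isPGroup (zpowers _).subtype
    ((MulAut.conj g).toMonoidHom.comp (zpowers _).subtype)
    (fun γ => zpowers_le.2 (h.mem _ D.2).1 γ.2)
    (fun γ => by
      rcases mem_zp DD γ.2 with k | k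
      · simp [k]
      · simpa [k, hg] using (h.mem _ u.2).1)
    ⟨g, fun _ => rfl⟩
  have e1 : mon ψ u.1 = g' * mon ψ D.1 * g'⁻¹ := hg.symm.trans (hg' ⟨_, mem_zpowers _⟩)
  obtain ⟨l, hl⟩ : ∃ l, l = (Matrix.GeneralLinearGroup.det g')⁻¹ := ⟨_, rfl⟩
  have dl : (Matrix.diagonal (Function.update (1 : Fin 4 → K) 0 (l : K))).det = l := by
    rw [Matrix.det_diagonal, Finset.prod_update_of_mem (Finset.mem_univ _)]
    simp
  let c : GL (Fin 4) K := Matrix.GeneralLinearGroup.mkOfDetNeZero _ (dl ▸ l.ne_zero)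
  have cG : c ∈ G := h.diag l (hl ▸ inv_mem (h.det g' gG)) 0 rfl c rfl
  have cd : Matrix.GeneralLinearGroup.det c = l := Units.ext dl
  have cD : c * mon ψ D.1 = mon ψ D.1 * c := Units.ext (by
    rw [Units.val_mul, Units.val_mul, coe_mon, monM_diag (by rw [hD]; rfl)]
    exact (Matrix.commute_diagonal _ _).eq)
  refine (QuotientGroup.mk' (center (G0 G))).map_isConj (isConj_iff.2
    ⟨⟨g' * c, mul_mem gG cG, MonoidHom.mem_ker.2 (by rw [map_mul, cd, hl, mul_inv_cancel])⟩, Subtype.ext ?_⟩)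
  change g' * c * mon ψ D.1 * (g' * c)⁻¹ = mon ψ u.1
  rw [e1, mul_assoc g', cD]
  group

theorem pe (h : Tw 4 M true G Λ ψ) : PE (PS G) := by
  have hM := h.hM
  obtain ⟨q, q1, q2⟩ : ∃ q : ZMod (2 ^ M), q + q = hf M ∧ hf M * q = 0 := by
    obtain ⟨k, rfl⟩ : ∃ k, M = k + 3 := ⟨M - 3, by omega⟩
    refine ⟨2 ^ (k + 1), by rw [hf]; simp [pow_succ]; ring, ?_⟩
    have : ((2 : ZMod (2 ^ (k + 3))) ^ (k + 3)) = 0 := by exact_mod_cast ZMod.natCast_self (2 ^ (k + 3))
    rw [hf, show k + 3 - 1 = k + 2 from rfl, ← pow_add, show k + 2 + (k + 1) = k + 3 + k by ring,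
      pow_add (2 : ZMod (2 ^ (k + 3))) (k + 3) k, this, zero_mul]
  have h0 := hf_add_hf M
  have hh : hf M * hf M = 0 := by linear_combination (2 : ZMod (2 ^ M)) * q2 - hf M * q1
  have n0 : hf M ≠ 0 := fun k => h.two (by
    have := psi_hf (by omega) h.inj
    rw [k, ψ.map_zero_eq_one] at this
    linear_combination this)
  have p0 : pi 4 0 = 1 := rfl
  have p1 : pi 4 1 = 0 := rfl
  have p2 : pi 4 2 = 3 := rfl
  have p3 : pi 4 3 = 2 := rfl
  have pp : pi 4 * pi 4 = 1 := by decide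
  have pn : pi 4 ≠ 1 := by decide
  have ps : Equiv.Perm.sign (pi 4) = 1 := by decide
  have mem : ∀ m : Mon 4 (2 ^ M), (m.s = 1 ∨ m.s = pi 4) → (∀ i, hf M * m.d i = 0) → ∑ i, m.d i = 0 →
      m ∈ T 4 M true := fun m h1 h2 h3 => by
    refine ⟨by rcases h1 with k | k <;> simp [k], fun i => ?_, ?_⟩
    · change m.d i = (1 + hf M) * m.d i
      rw [add_mul, one_mul, h2, add_zero]
    · rcases h1 with k | k <;> simp [dg, h3, k, ps]
  let a : T 4 M true := ⟨dm M ![true, false, true, false], mem _ (.inl rfl)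
    (fun i => by fin_cases i <;> simp [dm, hh]) (by simp [dm, Fin.sum_univ_four, h0])⟩
  let D : T 4 M true := ⟨dm M ![true, true, false, false], mem _ (.inl rfl)
    (fun i => by fin_cases i <;> simp [dm, hh]) (by simp [dm, Fin.sum_univ_four, h0])⟩
  let x : T 4 M true := ⟨⟨0, pi 4⟩, mem _ (.inr rfl) (fun i => mul_zero _) (by simp)⟩
  let w : T 4 M true := ⟨⟨fun _ => q, 1⟩, mem _ (.inl rfl) (fun i => q2)
    (by rw [Fin.sum_univ_four]; linear_combination (2 : ZMod (2 ^ M)) * q1 + h0)⟩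
  have w1 : h.ab w = 1 := (h.rl.2 w).2 ⟨rfl, fun _ _ => rfl⟩
  have sq : ∀ u : T 4 M true, u.1.s * u.1.s = 1 → (∀ i, u.1.d i + u.1.d (u.1.s i) = 0) → u * u = 1 :=
    fun u h1 h2 => Subtype.ext (Mon.ext (funext h2) h1)
  have DD : D * D = 1 := sq D rfl fun i => by fin_cases i <;> simp [D, dm, h0]
  have nD : ¬ Sc D.1 := fun k => n0 (by simpa [D, dm] using k.2 0 2)
  refine pe_of (a := h.ab a) (b := h.ab D) (c := h.ab x) (by rw [← map_mul, DD, map_one])
    (fun k => nD ((h.rl.2 D).1 k)) ?_ ?_ ?_ ?_ ?_ ?_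
  · exact conj_al h rfl (sq a rfl fun i => by fin_cases i <;> simp [a, dm, h0])
      fun k => n0 (by simpa [a, dm] using k.2 0 1)
  · rw [← map_mul]
    exact conj_al h rfl (sq _ rfl fun i => by fin_cases i <;> simp [a, D, dm, h0])
      fun k => n0 (by simpa [a, D, dm] using k.2 1 3)
  · exact conj_al h rfl (sq x pp fun i => by simp [x]) fun k => pn k.1
  · rw [← map_mul]
    exact conj_al h rfl (sq _ (by simpa [D, x, dm] using pp) fun i => by
      fin_cases i <;> simp [x, D, dm, h0, p0, p1, p2, p3]) fun k => pn (by simpa [D, x, dm] using k.1)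
  · rw [← one_mul (h.ab a), ← w1, ← map_mul, ← map_mul]
    refine conj_al h rfl (sq _ (by simpa [w, a, x, dm] using pp) fun i => ?_)
      fun k => pn (by simpa [w, a, x, dm] using k.1)
    fin_cases i <;> simp [x, w, a, dm, p0, p1, p2, p3] <;> linear_combination q1 + h0
  · rw [mul_assoc, ← one_mul (h.ab a), ← w1, ← map_mul, ← map_mul, ← map_mul]
    refine conj_al h rfl (sq _ (by simpa [w, a, x, D, dm] using pp) fun i => ?_)
      fun k => pn (by simpa [w, a, x, D, dm] using k.1)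
    fin_cases i <;> simp [x, w, a, D, dm, p0, p1, p2, p3] <;>
      first | linear_combination q1 + h0 | linear_combination q1 + (2 : ZMod (2 ^ M)) * h0

theorem not_pe (h : Tw 4 M false G Λ ψ) : ¬ PE (PS G) := by
  rintro ⟨E0, h1, h2, h3⟩
  have := h.finite
  obtain ⟨g, hg⟩ := h.rl.1.exists_conj h1.isPGroup
  obtain ⟨E, e1, e2, e3, e4⟩ : ∃ E : Subgroup (PS G), IsElementaryAbelian 2 E ∧ Nat.card E = 8 ∧
      (∀ u ∈ E, ∀ v ∈ E, u ≠ 1 → v ≠ 1 → IsConj u v) ∧ E ≤ h.ab.range := by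
    refine ⟨E0.map (MulAut.conj g).toMonoidHom, h1.map _,
      by rw [card_map_of_injective (MulAut.conj g).injective, h2], ?_, ?_⟩
    · rintro _ ⟨u, hu, rfl⟩ _ ⟨v, hv, rfl⟩ n1 n2
      exact MonoidHom.map_isConj _
        (h3 u hu v hv (fun k => n1 (by rw [k, map_one])) fun k => n2 (by rw [k, map_one]))
    · rintro _ ⟨u, hu, rfl⟩
      exact hg u hu
  have hk : Nat.card h.ab.ker = 2 :=
    (Nat.card_congr (Equiv.subtypeEquivRight fun m => h.rl.2 m)).trans (card_Sc h.hn h.hM)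
  have k2 : ∀ c, h.ab c = 1 → c * c = 1 := fun c hc => by
    have := pow_card_eq_one' (x := (⟨c, hc⟩ : h.ab.ker))
    rw [hk, pow_two] at this
    exact congrArg Subtype.val this
  have kc : ∀ c, h.ab c = 1 ↔ h.al c ∈ center (G0 G) := fun c => (h.rl.2 c).trans (h.al_mem_center c).symm
  have s1 : ∀ m, h.ab m ∈ E → h.ab (m * m) = 1 := fun m hm => by rw [map_mul, ← pow_two, e1.2 _ hm]
  have same : ∀ m m', h.ab m ∈ E → h.ab m' ∈ E → h.ab m ≠ 1 → h.ab m' ≠ 1 → m' * m' = m * m :=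
    fun m m' hm hm' n n' => by
      obtain ⟨⟨y⟩, hy⟩ := isConj_iff.1 (e3 _ hm _ hm' n n')
      obtain ⟨c, c1, c2⟩ := h.sy_al.lift_conj (g := y) (s := m) (t := m') hy.symm
      refine h.al_injective ?_
      have z1 := mem_center_iff.1 ((kc _).1 (s1 m hm)) y
      rw [map_mul, c2, mul_assoc, ← mul_assoc (h.al c), ← mem_center_iff.1 c1, mul_assoc _ (h.al c), ← map_mul,
        k2 c ((kc c).2 c1), map_one, mul_one, conj_mul, ← map_mul, z1, mul_inv_cancel_right]
  obtain ⟨_, hA, a1, -⟩ := exists_ne e2 1 1 1 1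
  obtain ⟨x, rfl⟩ := e4 hA
  by_cases hx : x * x = 1
  · have all : ∀ m : E.comap h.ab, m * m = 1 := fun m => Subtype.ext (by
      by_cases k : h.ab m = 1
      · exact k2 _ k
      · exact (same x m hA m.2 a1 k).trans hx)
    have le := Cl.Cls.card_le_pow_of_commute_of_det
      ((monM ψ).comp ((T 4 M false).subtype.comp (E.comap h.ab).subtype))
      ((monM_injective h.inj).comp (Subtype.val_injective.comp Subtype.val_injective))
      (fun u v => comm_of (all u) (all v) (all _)) two_pos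
      (IsPrimitiveRoot.neg_one (ringChar K) fun k => h.two (by
        have := ringChar.Nat.cast_ringChar (R := K)
        rw [k] at this
        exact_mod_cast this))
      (fun u => by rw [pow_two, all]) fun u => by
        change (monM ψ u.1.1).det = 1
        rw [det_monM (by have := h.hM; omega) h.inj, u.1.2.2.2, ψ.map_zero_eq_one]
    let f : E.comap h.ab → E := fun m => ⟨h.ab m, m.2⟩
    have fs : Function.Surjective f := fun u => by
      obtain ⟨m, hm⟩ := e4 u.2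
      exact ⟨⟨m, by rw [mem_comap, hm]; exact u.2⟩, Subtype.ext hm⟩
    have fi := (fs.bijective_of_nat_card_le (by rw [e2]; simpa using le)).1
    have : h.ab.ker = ⊥ := (eq_bot_iff_forall _).2 fun c hc => congrArg Subtype.val
      (@fi ⟨c, by rw [mem_comap, hc]; exact one_mem _⟩ 1 (Subtype.ext (hc.trans (map_one _).symm)))
    rw [this, card_bot] at hk
    omega
  · obtain ⟨_, hB, b1, b2, -⟩ := exists_ne e2 1 (h.ab x) 1 1
    obtain ⟨y, rfl⟩ := e4 hB
    obtain ⟨_, hC, c1, c2, c3, c4⟩ := exists_ne e2 1 (h.ab x) (h.ab y) (h.ab x * h.ab y)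
    obtain ⟨u, rfl⟩ := e4 hC
    have cen : ∀ m, m * (x * x) = x * x * m := fun m => h.al_injective (by
      rw [map_mul, map_mul _ _ m]
      exact mem_center_iff.1 ((kc _).1 (s1 x hA)) _)
    have n2 := k2 _ (s1 x hA)
    have anti : ∀ s t, h.ab s ∈ E → h.ab t ∈ E → h.ab s ≠ 1 → h.ab t ≠ 1 → h.ab s ≠ h.ab t →
        s * t = x * x * (t * s) := fun s t hs ht s0 t0 st => by
      have k := same x (t * s) hA (by rw [map_mul]; exact mul_mem ht hs) a1 (fun l => st (by
        rw [map_mul, mul_eq_one_iff_inv_eq, inv_eq_of_mul_eq_one_left (by rw [← map_mul, s1 t ht])] at l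
        exact l.symm))
      have ks := same x s hA hs a1 s0
      have kt := same x t hA ht a1 t0
      calc s * t = t⁻¹ * (t * s * (t * s)) * s⁻¹ := by group
        _ = t⁻¹ * (t * t * (x * x) * (s * s)) * s⁻¹ := by rw [k, kt, ks, n2, one_mul]
        _ = t * (x * x) * s := by group
        _ = _ := by rw [cen, mul_assoc]
    have xy : h.ab (x * y) ≠ 1 := fun l => b2 (by
      rw [map_mul, mul_eq_one_iff_inv_eq, inv_eq_of_mul_eq_one_left (by rw [← map_mul, s1 x hA])] at l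
      exact l.symm)
    have r1 := anti u x hC hA c1 a1 c2
    have r2 := anti u y hC hB c1 b1 c3
    have r3 := anti u (x * y) hC (by rw [map_mul]; exact mul_mem hA hB) c1 xy (by rwa [map_mul])
    rw [← mul_assoc, r1, mul_assoc, mul_assoc x u, r2, ← mul_assoc x (x * x), cen, mul_assoc (x * x) x,
      mul_right_inj, ← mul_assoc x y] at r3
    exact hx (mul_eq_right.1 r3)

end Pe

variable {M : ℕ} {X : Type*} [Group X]

theorem IsTw.pe (h : IsTw 4 M true X) : PE X := by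
  obtain ⟨K, _, G, Λ, ψ, h, ⟨e⟩⟩ := h
  exact Pe.pe_map (Pe.pe h) e.symm.toMonoidHom e.symm.injective

theorem IsTw.not_pe (h : IsTw 4 M false X) : ¬ PE X := by
  obtain ⟨K, _, G, Λ, ψ, h, ⟨e⟩⟩ := h
  exact fun k => Pe.not_pe h (Pe.pe_map k e.toMonoidHom e.injective)

end Cfsg.Agent.F5
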