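import Mathlib
import Cfsg.Agent.F5.Eq
import Cfsg.Agent.F5.Inv
import Cfsg.Agent.Inv.FzBasic

/-! The centralizer of a 2-central involution for `n = 4` (see stubs/Cfsg/Agent/F5/PLAN.md) -/

set_option autoImplicit false
set_option linter.unusedSectionVars false

namespace Cfsg.Agent.F5

open Subgroup

namespace Qc

section Abstract

variable {H : Type*} [Group H]

/-- The universal property of the quaternion group. -/
theorem exists_q8 {A B : H} (h4 : A ^ 4 = 1) (hB : B * B = A * A) (hc : A * B = B * A⁻¹) :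
    ∃ φ : Q8 →* H, φ qa = A ∧ φ qb = B := by
  have add : ∀ i j : ZMod (2 * 2), A ^ (i + j).val = A ^ i.val * A ^ j.val := fun i j => by
    rw [ZMod.val_add, ← pow_add]; exact (pow_eq_pow_mod _ h4).symm
  have neg : ∀ i : ZMod (2 * 2), A ^ i.val * B = B * A ^ (-i).val := fun i => by
    rw [show A ^ (-i).val = (A ^ i.val)⁻¹ from eq_inv_of_mul_eq_one_left (by rw [← add]; simp), ← inv_pow]
    exact ((show SemiconjBy B A⁻¹ A from hc.symm).pow_right _).eq.symm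
  refine ⟨MonoidHom.mk' (fun x => match x with
    | .a i => A ^ i.val
    | .xa i => B * A ^ i.val) ?_, pow_one A, (congrArg (B * ·) (pow_zero A)).trans (mul_one B)⟩
  rintro (i | i) (j | j)
  · exact add i j
  · show B * A ^ (j - i).val = A ^ i.val * (B * A ^ j.val)
    rw [← mul_assoc, neg, mul_assoc, ← add, neg_add_eq_sub]
  · show B * A ^ (i + j).val = B * A ^ i.val * A ^ j.val
    rw [add, mul_assoc]
  · show A ^ (((2 : ℕ) : ZMod (2 * 2)) + j - i).val = B * A ^ i.val * (B * A ^ j.val)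
    rw [mul_assoc, ← mul_assoc _ B, neg, ← mul_assoc, ← mul_assoc, hB, mul_assoc, ← add, add_sub_assoc, add,
      neg_add_eq_sub, ← pow_two A]
    rfl

theorem q8_ext {φ χ : Q8 →* H} (ha : φ qa = χ qa) (hb : φ qb = χ qb) (x : Q8) : φ x = χ x := by
  obtain ⟨i, e | e⟩ := (by decide : ∀ x : Q8, ∃ i : Fin 4, x = qa ^ i.1 ∨ x = qb * qa ^ i.1) x <;>
    simp only [e, map_mul, map_pow, ha, hb]

theorem exists_tau : ∃ τ : Q8 →* Q8, τ qa = qb ∧ τ qb = qa * qb ∧ ∀ x, τ (τ (τ x)) = x := by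
  obtain ⟨τ, h1, h2⟩ := exists_q8 (A := qb) (B := qa * qb) (by decide) (by decide) (by decide)
  have h3 : τ (qa * qb) = qa := by rw [map_mul, h1, h2]; decide
  exact ⟨τ, h1, h2, q8_ext (φ := τ.comp (τ.comp τ)) (χ := MonoidHom.id _) (by simp only [MonoidHom.comp_apply, h1, h2, h3]; rfl)
    (by simp only [MonoidHom.comp_apply, h1, h2, h3]; rfl)⟩

theorem isPGroup_QQ : IsPGroup 2 (Q8 × Q8) := IsPGroup.of_card (n := 6) (by
  rw [Nat.card_prod, Nat.card_eq_fintype_card, QuaternionGroup.card]; rfl)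

/-- The rotation `(1 + i + j + k) / 2`. -/
theorem rot {K R : Type*} [Field K] [Ring R] [Algebra K R] (h2 : (2 : K) ≠ 0) {A B Z : R} (AA : A * A = Z)
    (BB : B * B = Z) (BA : B * A = A * B * Z) (AZ : A * Z = 1 + Z - A) (BZ : B * Z = 1 + Z - B) :
    ∃ g : Rˣ, g * A = B * g ∧ g * B = A * B * g ∧ ∀ C, A * C = C * A → B * C = C * B → g * C = C * g := by
  have ZA : Z * A = 1 + Z - A := by rw [← AZ, ← AA, mul_assoc]
  have ZB : Z * B = 1 + Z - B := by rw [← BZ, ← BB, mul_assoc]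
  have ZZ : Z * Z = 1 := by
    nth_rw 1 [← AA]
    rw [mul_assoc, AZ, mul_sub, mul_add, AZ, AA, mul_one]; abel
  obtain ⟨C, AB⟩ : ∃ C, A * B = C := ⟨_, rfl⟩
  have CZ : C * Z = 1 + Z - C := by rw [← AB, mul_assoc, BZ, mul_sub, mul_add, AZ, mul_one]; abel
  have ZC : Z * C = 1 + Z - C := by rw [← AB, ← mul_assoc, ZA, sub_mul, add_mul, ZB, one_mul]; abel
  rw [AB, CZ] at BA
  have AC : A * C = 1 + Z - B := by rw [← AB, ← mul_assoc, AA, ZB]
  have CB : C * B = 1 + Z - A := by rw [← AB, mul_assoc, BB, AZ]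
  have BC : B * C = A := by rw [← AB, ← mul_assoc, BA, sub_mul, add_mul, ZB, CB, one_mul]; abel
  have CA : C * A = B := by rw [← AB, mul_assoc, BA, mul_sub, mul_add, AZ, AC, mul_one]; abel
  have CC : C * C = Z := by nth_rw 2 [← AB]; rw [← mul_assoc, CA, BB]
  have h4 : ((2 : K) * 2)⁻¹ • (1 + 1 + 1 + 1 : R) = 1 := by
    rw [show (1 + 1 + 1 + 1 : R) = ((2 : K) * 2) • 1 by rw [mul_smul, two_smul, two_smul, add_assoc], smul_smul,
      inv_mul_cancel₀ (mul_ne_zero h2 h2), one_smul]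
  refine ⟨⟨A + B + C - Z, ((2 : K) * 2)⁻¹ • (1 + 1 + 1 + Z + Z - A - B - C), ?_, ?_⟩, ?_, ?_, fun D h1 h2 => ?_⟩
  · rw [mul_smul_comm, ← h4]
    congr 1
    simp only [mul_add, add_mul, mul_sub, sub_mul, mul_one, *]; abel
  · rw [smul_mul_assoc, ← h4]
    congr 1
    simp only [mul_add, add_mul, mul_sub, sub_mul, one_mul, *]; abel
  · simp only [mul_add, add_mul, mul_sub, sub_mul, *]; abel
  · simp only [mul_add, add_mul, mul_sub, sub_mul, *]; abel
  · have k1 : Commute A D := h1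
    have k2 : Commute B D := h2
    exact (((k1.add_left k2).add_left (AB ▸ k1.mul_left k2)).sub_left (AA ▸ k1.mul_left k1)).eq

/-- The centralizer of the class of `d` modulo the centre. -/
theorem idx2 {d w n : H} (hn : n ∈ center H) (n1 : n ≠ 1) (hd : d * d = 1) (hw : w * d * w⁻¹ = n * d)
    (hc : ∀ c ∈ center H, c * c = 1 → c = 1 ∨ c = n) :
    ∃ L : Subgroup (centralizer ({(d : H ⧸ center H)} : Set (H ⧸ center H))), L.index = 2 := by
  have sq : ∀ g c, c ∈ center H → g * d * g⁻¹ = c * d → c * c = 1 := fun g c h e => by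
    have : c * d * (c * d) = 1 := by rw [← e, conj_mul, hd]; group
    rwa [mul_assoc, ← mul_assoc d, mem_center_iff.1 h d, mul_assoc, hd, mul_one] at this
  have mk : ∀ g : H, (g : H ⧸ center H) ∈ centralizer {(d : H ⧸ center H)} ↔ g * d * g⁻¹ * d⁻¹ ∈ center H := fun g => by
    rw [mem_centralizer_singleton_iff, ← QuotientGroup.eq_one_iff, QuotientGroup.mk_mul, QuotientGroup.mk_mul,
      QuotientGroup.mk_mul, QuotientGroup.mk_inv, QuotientGroup.mk_inv, mul_inv_eq_one, mul_inv_eq_iff_eq_mul]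
  have mL : ∀ g : H, (g : H ⧸ center H) ∈ (centralizer {d}).map (QuotientGroup.mk' (center H)) ↔ g * d * g⁻¹ = d :=
    fun g => by
      rw [mul_inv_eq_iff_eq_mul, ← mem_centralizer_singleton_iff]
      refine ⟨fun ⟨k, hk, e⟩ => ?_, fun h => ⟨g, h, rfl⟩⟩
      simpa using mul_mem (show k ∈ centralizer {d} from hk) (center_le_centralizer _ (QuotientGroup.eq.1 e))
  refine ⟨((centralizer {d}).map (QuotientGroup.mk' (center H))).subgroupOf _,
    index_eq_two_iff.2 ⟨⟨w, (mk w).2 (by rwa [hw, mul_inv_cancel_right])⟩, fun ⟨g, hg⟩ => ?_⟩⟩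
  obtain ⟨g, rfl⟩ := QuotientGroup.mk_surjective g
  rw [mem_subgroupOf, mem_subgroupOf, coe_mul, ← QuotientGroup.mk_mul, mL, mL,
    show g * w * d * (g * w)⁻¹ = g * (w * d * w⁻¹) * g⁻¹ by group, hw, ← mul_assoc, mem_center_iff.1 hn g, mul_assoc n,
    mul_assoc n]
  have h1 := (mk g).1 hg
  rcases hc _ h1 (sq g _ h1 (by group)) with e | e
  · rw [mul_inv_eq_one.1 e]
    exact .inr ⟨rfl, fun k => n1 (mul_eq_right.1 k)⟩
  · rw [mul_inv_eq_iff_eq_mul.1 e, ← mul_assoc, sq w n hn hw, one_mul]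
    exact .inl ⟨rfl, fun k => n1 (mul_eq_right.1 k)⟩

end Abstract

section Model

variable {n M : ℕ} {b : Bool} {K : Type} [Field K] {G : Subgroup (GL (Fin n) K)} {Λ : Subgroup Kˣ}
  {ψ : AddChar (ZMod (2 ^ M)) K}

theorem mz (hψ : ψ (hf M) = -1) {m Z : Mon n (2 ^ M)} (hs : Z.s = 1)
    (h : ∀ i, Z.d i = hf M ∨ Z.d i = 0 ∧ m.s i = i ∧ m.d i = 0) :
    monM ψ m * monM ψ Z = 1 + monM ψ Z - monM ψ m := by
  rw [← map_mul]
  ext j i
  simp only [monM_apply, Mon.mul_s, Mon.mul_d, hs, mul_one, Equiv.Perm.one_apply, Matrix.sub_apply, Matrix.add_apply,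
    Matrix.one_apply, AddChar.map_add_eq_mul]
  rcases h i with e | ⟨e1, e2, e3⟩
  · rw [e, hψ]; split_ifs <;> simp
  · rw [e1, e2, e3]; split_ifs <;> simp

/-- An automorphism of order three induced in `GL_n(K)` is induced in the projective special group. -/
theorem key (h : Tw n M b G Λ ψ) {Γ : Type} [Group Γ] [Finite Γ] (hΓ : IsPGroup 2 Γ) (φ : Γ →* T n M b) (σ : Γ →* Γ)
    (h3 : ∀ x, σ (σ (σ x)) = x) (hg : ∃ g : GL (Fin n) K, ∀ x, mon ψ (φ (σ x)) = g * mon ψ (φ x) * g⁻¹) :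
    ∃ a : PS G, ∀ x, h.ab (φ (σ x)) = a * h.ab (φ x) * a⁻¹ := by
  have := h.finite
  obtain ⟨g, hG, hg⟩ := h.ctl Γ hΓ (((mon ψ).comp (T n M b).subtype).comp φ)
    ((((mon ψ).comp (T n M b).subtype).comp φ).comp σ) (fun x => (h.mem _ (φ x).2).1) (fun x => (h.mem _ (φ (σ x)).2).1) hg
  replace hg : ∀ x, mon ψ (φ (σ x)) = g * mon ψ (φ x) * g⁻¹ := hg
  have p4 : ∀ k : ℕ, ∀ x, mon ψ (φ (σ x)) = g ^ 4 ^ k * mon ψ (φ x) * (g ^ 4 ^ k)⁻¹ := fun k => by
    induction k with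
    | zero => simpa using hg
    | succ k ih =>
      intro x
      rw [← h3 (σ x), ih, ih, ih, ih, pow_succ, pow_mul]
      generalize g ^ 4 ^ k = u
      simp only [pow_succ, pow_zero, one_mul, mul_inv_rev, mul_assoc]
  obtain ⟨k, hk⟩ := Inv.Fz.exists_pow_coprime (p := 2) g
  obtain ⟨a, ha, e⟩ := h.odd (pow_mem hG (4 ^ k)) (by
    rw [show 4 ^ k = 2 ^ k * 2 ^ k from mul_pow 2 2 k, pow_mul]
    exact Nat.coprime_two_right.1 (hk.coprime_dvd_left (orderOf_pow_dvd _)))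
  refine ⟨(QuotientGroup.mk ⟨a, ha⟩ : PS G), fun x => ?_⟩
  rw [h.ab_apply, h.ab_apply, ← QuotientGroup.mk_inv, ← QuotientGroup.mk_mul, ← QuotientGroup.mk_mul]
  exact congrArg _ (Subtype.ext ((p4 k x).trans (e _ (φ x).2).symm))

end Model

section Four

variable {M : ℕ} {b : Bool}

/-- The exponent of an element of order four. -/
def q4 (M : ℕ) : ZMod (2 ^ M) := 2 ^ (M - 2)

theorem q4_add (hM : 3 ≤ M) : q4 M + q4 M = hf M := by
  rw [q4, hf, ← two_mul, ← pow_succ']; congr 1; omega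

theorem hf_q4 (hM : 3 ≤ M) : hf M * q4 M = 0 := by
  rw [q4, show M - 2 = M - 3 + 1 by omega, pow_succ', ← mul_assoc, mul_two, hf_add_hf, zero_mul]

theorem hf_hf (hM : 3 ≤ M) : hf M * hf M = 0 := by
  nth_rw 2 [← q4_add hM]
  rw [mul_add, hf_q4 hM, add_zero]

theorem neg_hf (M : ℕ) : -hf M = hf M := neg_eq_of_add_eq_zero_right (hf_add_hf M)

/-- The diagonal generator. -/
def mA (M : ℕ) : Mon 4 (2 ^ M) := ⟨![q4 M, -q4 M, 0, 0], 1⟩
/-- The monomial generator. -/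
def mB (M : ℕ) (b : Bool) : Mon 4 (2 ^ M) := ⟨![if b then 0 else 1, if b then hf M else ee M b, 0, 0], Equiv.swap 0 1⟩
/-- The central involution. -/
def mZ (M : ℕ) : Mon 4 (2 ^ M) := ⟨![hf M, hf M, 0, 0], 1⟩
/-- The element interchanging the two factors. -/
def mW (M : ℕ) : Mon 4 (2 ^ M) := ⟨0, Equiv.swap 0 2 * Equiv.swap 1 3⟩
/-- The scalar `-1`. -/
def mN (M : ℕ) : Mon 4 (2 ^ M) := ⟨fun _ => hf M, 1⟩

theorem pi4 : pi 4 0 = 1 ∧ pi 4 1 = 0 ∧ pi 4 2 = 3 ∧ pi 4 3 = 2 := by decide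

theorem sw4 : Equiv.swap (0 : Fin 4) 1 2 = 2 ∧ Equiv.swap (0 : Fin 4) 1 3 = 3 ∧ Equiv.swap (0 : Fin 4) 2 1 = 1 ∧
    Equiv.swap (0 : Fin 4) 2 3 = 3 ∧ Equiv.swap (1 : Fin 4) 3 0 = 0 ∧ Equiv.swap (1 : Fin 4) 3 2 = 2 := by decide

theorem mA_mem (hM : 3 ≤ M) : mA M ∈ T 4 M b := by
  have := hf_q4 hM
  refine ⟨by simp [mA], fun i => ?_, by simp [dg, mA, Fin.sum_univ_four]⟩
  cases b <;> fin_cases i <;> simp [mA, pb, ee, pi4, add_mul, this]

theorem mB_mem (hM : 3 ≤ M) : mB M b ∈ T 4 M b := by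
  have := hf_hf hM
  have h2 := hf_add_hf M
  refine ⟨by change Equiv.swap 0 1 * pi 4 = pi 4 * Equiv.swap 0 1; decide, fun i => ?_, ?_⟩
  · cases b <;> fin_cases i <;> simp [mB, pb, ee, pi4, add_mul, this]
    linear_combination h2 - this
  · cases b <;> simp [dg, mB, ee, Fin.sum_univ_four, h2]

theorem mW_mem : mW M ∈ T 4 M b :=
  ⟨by change Equiv.swap 0 2 * Equiv.swap 1 3 * pi 4 = pi 4 * (Equiv.swap 0 2 * Equiv.swap 1 3); decide,
    fun i => by simp [mW], by simp [dg, mW]⟩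

theorem mAA (hM : 3 ≤ M) : mA M * mA M = mZ M := Mon.ext (funext fun i => by
  have := q4_add hM
  have h2 := hf_add_hf M
  fin_cases i <;> simp [mA, mZ, this]
  linear_combination -this - h2) (mul_one _)

theorem mBB : mB M b * mB M b = mZ M := Mon.ext (funext fun i => by
  cases b <;> fin_cases i <;> simp [mB, mZ, ee, sw4]) (Equiv.swap_mul_self _ _)

theorem mZZ : mZ M * mZ M = 1 := Mon.ext (funext fun i => by
  fin_cases i <;> simp [mZ, hf_add_hf]) (mul_one _)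

theorem mAB : mA M * mB M b = mB M b * (mA M)⁻¹ := Mon.ext (funext fun i => by
  fin_cases i <;> simp [mA, mB, sw4, add_comm]) (by simp [mA])

theorem mWW : mW M * mW M = 1 := Mon.ext (funext fun i => by simp [mW]) (by
  change Equiv.swap (0 : Fin 4) 2 * Equiv.swap 1 3 * (Equiv.swap 0 2 * Equiv.swap 1 3) = 1; decide)

theorem mWZ : mW M * mZ M * (mW M)⁻¹ = mN M * mZ M := Mon.ext (funext fun i => by
  fin_cases i <;> simp [mW, mZ, mN, sw4, hf_add_hf]) (by simp [mZ, mN])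

/-- Elements supported on the first two coordinates commute with their conjugates under `mW`. -/
theorem comm_W {x y : Mon 4 (2 ^ M)} (hx : (x.s = 1 ∨ x.s = Equiv.swap 0 1) ∧ x.d 2 = 0 ∧ x.d 3 = 0)
    (hy : (y.s = 1 ∨ y.s = Equiv.swap 0 1) ∧ y.d 2 = 0 ∧ y.d 3 = 0) :
    x * (mW M * y * (mW M)⁻¹) = mW M * y * (mW M)⁻¹ * x := by
  obtain ⟨x1 | x1, x2, x3⟩ := hx <;> obtain ⟨y1 | y1, y2, y3⟩ := hy <;>
    refine Mon.ext (funext fun i => ?_) (by simp only [Mon.mul_s, Mon.inv_s, x1, y1, mW]; decide) <;>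
    fin_cases i <;> simp [mW, sw4, *]

theorem conj_Z {m : Mon 4 (2 ^ M)} (hm : m ∈ T 4 M b) : Sc (m * mZ M * m⁻¹ * (mZ M)⁻¹) := by
  have h2 := hf_add_hf M
  have k : ∀ s : Equiv.Perm (Fin 4), s * pi 4 = pi 4 * s →
      (∀ i, (s⁻¹ i).1 < 2 ↔ i.1 < 2) ∨ ∀ i, (s⁻¹ i).1 < 2 ↔ ¬ i.1 < 2 := by decide
  have hd : ∀ i, (mZ M).d i = if i.1 < 2 then hf M else 0 := fun i => by fin_cases i <;> rfl
  have e : ∀ i, (m * mZ M * m⁻¹ * (mZ M)⁻¹).d i = (mZ M).d (m.s⁻¹ i) - (mZ M).d i := fun i => by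
    simp only [Mon.mul_d, Mon.inv_d, Mon.inv_s, show (mZ M).s = 1 from rfl, inv_one, Equiv.Perm.one_apply]
    ring
  refine ⟨by simp [mZ], fun i j => ?_⟩
  rw [e, e, hd, hd, hd, hd]
  rcases k _ hm.1 with l | l <;> simp only [l]
  · simp
  · split_ifs <;> simp_all [neg_hf]

variable {K : Type} [Field K] {G : Subgroup (GL (Fin 4) K)} {Λ : Subgroup Kˣ} {ψ : AddChar (ZMod (2 ^ M)) K}

theorem hf_ne (h : Tw 4 M b G Λ ψ) : hf M ≠ 0 := fun e => by
  have := psi_hf (by have := h.hM; omega) h.inj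
  rw [e, AddChar.map_zero_eq_one, eq_neg_iff_add_eq_zero, one_add_one_eq_two] at this
  exact h.two this

theorem mZ_mem (hM : 3 ≤ M) : mZ M ∈ T 4 M b := mAA hM ▸ mul_mem (mA_mem hM) (mA_mem hM)

theorem mN_mem (hM : 3 ≤ M) : mN M ∈ T 4 M b := by
  rw [← mul_inv_eq_iff_eq_mul.2 mWZ]
  exact mul_mem (mul_mem (mul_mem mW_mem (mZ_mem hM)) (inv_mem mW_mem)) (inv_mem (mZ_mem hM))

theorem sc_N : Sc (mN M) := ⟨rfl, fun _ _ => rfl⟩

theorem ab_Z (h : Tw 4 M b G Λ ψ) : h.ab ⟨mZ M, mZ_mem h.hM⟩ ≠ 1 := fun e => hf_ne h (((h.rl.2 _).1 e).2 0 2)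

theorem qc (h : Tw 4 M b G Λ ψ) : QC (PS G) := by
  have hM := h.hM
  have hψ := psi_hf (by omega) h.inj
  obtain ⟨φ, ha, hb⟩ := exists_q8 (H := T 4 M b) (A := ⟨mA M, mA_mem hM⟩) (B := ⟨mB M b, mB_mem hM⟩)
    (Subtype.ext (show mA M ^ (2 * 2) = 1 by rw [pow_mul, pow_two, pow_two, mAA hM, mZZ]))
    (Subtype.ext (mBB.trans (mAA hM).symm)) (Subtype.ext mAB)
  obtain ⟨τ, t1, t2, t3⟩ := exists_tau
  let w : T 4 M b := ⟨mW M, mW_mem⟩
  have ww : w * w = 1 := Subtype.ext mWW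
  have sup : ∀ x, ((φ x).1.s = 1 ∨ (φ x).1.s = Equiv.swap 0 1) ∧ (φ x).1.d 2 = 0 ∧ (φ x).1.d 3 = 0 := fun x => by
    obtain ⟨i, e | e⟩ := (by decide : ∀ x : Q8, ∃ i : Fin 4, x = qa ^ i.1 ∨ x = qb * qa ^ i.1) x <;>
      rw [e] <;> simp only [map_mul, map_pow, ha, hb] <;> fin_cases i <;> simp [pow_succ, mA, mB]
  have cm : ∀ x y, Commute (φ x) (((MulAut.conj w).toMonoidHom.comp φ) y) := fun x y =>
    Subtype.ext (comm_W (sup x) (sup y))
  let γ := φ.noncommCoprod ((MulAut.conj w).toMonoidHom.comp φ) cm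
  have hγ : ∀ x y, γ (x, y) = φ x * (w * φ y * w⁻¹) := fun x y => rfl
  have sw : ∀ x y, γ (y, x) = w * γ (x, y) * w⁻¹ := fun x y => by
    rw [hγ, hγ, show φ y * (w * φ x * w⁻¹) = w * φ x * w⁻¹ * φ y from (cm y x).eq]
    calc _ = w * φ x * w⁻¹ * (w * w * φ y * (w * w)⁻¹) := by rw [ww]; group
      _ = _ := by group
  have hz : φ (qa * qa) = ⟨mZ M, mZ_mem hM⟩ := by rw [map_mul, ha]; exact Subtype.ext (mAA hM)
  obtain ⟨a, hA⟩ := key h isPGroup_QQ γ (τ.prodMap (MonoidHom.id _)) (fun x => Prod.ext (t3 _) rfl) (by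
    obtain ⟨g, g1, g2, g3⟩ := rot h.two (A := monM ψ (mA M)) (B := monM ψ (mB M b)) (Z := monM ψ (mZ M))
      (by rw [← map_mul, mAA hM]) (by rw [← map_mul, mBB]) (by
        rw [← map_mul, ← map_mul, ← map_mul, mAB, ← mAA hM, mul_assoc, inv_mul_cancel_left])
      (mz hψ rfl fun i => by fin_cases i <;> simp [mZ, mA]) (mz hψ rfl fun i => by fin_cases i <;> simp [mZ, mB, sw4])
    have k1 := q8_ext (φ := (((mon ψ).comp (T 4 M b).subtype).comp φ).comp τ)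
      (χ := (MulAut.conj g).toMonoidHom.comp (((mon ψ).comp (T 4 M b).subtype).comp φ))
      (by
        simp only [MonoidHom.comp_apply, t1, ha, hb]
        exact eq_mul_inv_of_mul_eq (Units.ext g1.symm))
      (by
        simp only [MonoidHom.comp_apply, t2, map_mul, ha, hb]
        exact eq_mul_inv_of_mul_eq (Units.ext g2.symm))
    refine ⟨g, fun ⟨x, y⟩ => ?_⟩
    have k2 : g * mon ψ (w * φ y * w⁻¹ : T 4 M b) * g⁻¹ = mon ψ (w * φ y * w⁻¹ : T 4 M b) := by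
      refine mul_inv_eq_of_eq_mul (Units.ext (g3 _ ?_ ?_))
      · rw [coe_mon, ← map_mul, ← map_mul]
        exact congrArg (fun t : T 4 M b => monM ψ t.1) (ha ▸ cm qa y :)
      · rw [coe_mon, ← map_mul, ← map_mul]
        exact congrArg (fun t : T 4 M b => monM ψ t.1) (hb ▸ cm qb y :)
    rw [MonoidHom.coe_prodMap, Prod.map_apply, hγ, hγ, coe_mul, coe_mul (x := φ x), map_mul, map_mul, ← conj_mul, k2]
    exact congrArg (· * _) (k1 x))
  replace hA : ∀ x y, h.ab (γ (τ x, y)) = a * h.ab (γ (x, y)) * a⁻¹ := fun x y => hA (x, y)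
  have hB : ∀ x y, h.ab (γ (x, τ y)) = h.ab w * a * (h.ab w)⁻¹ * h.ab (γ (x, y)) * (h.ab w * a * (h.ab w)⁻¹)⁻¹ :=
    fun x y => by
      rw [sw (τ y) x, sw y x, map_mul, map_mul, map_mul, map_mul, map_inv, hA]
      group
  refine ⟨h.ab.comp γ, ?_, ?_, ⟨a, ?_⟩, ⟨h.ab w * a * (h.ab w)⁻¹, ?_⟩⟩
  · refine (h.rl.2 _).2 ?_
    rw [hγ, hz]
    have : mZ M * (mW M * mZ M * (mW M)⁻¹) = mN M := by
      rw [mWZ]
      exact Mon.ext (funext fun i => by fin_cases i <;> simp [mZ, mN, hf_add_hf]) (by simp [mZ, mN])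
    exact (congrArg Sc this).mpr sc_N
  · rw [MonoidHom.comp_apply, hγ, hz, map_one, mul_one, mul_inv_cancel, mul_one]
    exact ab_Z h
  · simp only [Set.mem_insert_iff, Set.mem_singleton_iff, forall_eq_or_imp, forall_eq, MonoidHom.comp_apply, ← hA, t1, t2,
      map_one, and_self]
  · simp only [Set.mem_insert_iff, Set.mem_singleton_iff, forall_eq_or_imp, forall_eq, MonoidHom.comp_apply, ← hB, t1, t2,
      map_one, and_self]

theorem fc (h : Tw 4 M b G Λ ψ) : FC (PS G) := by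
  have hM := h.hM
  have hψ := psi_hf (by omega) h.inj
  have zz : (⟨mZ M, mZ_mem hM⟩ : T 4 M b) * ⟨mZ M, mZ_mem hM⟩ = 1 := Subtype.ext mZZ
  have hN : monM ψ (mN M) = (-1 : K) • (1 : Matrix (Fin 4) (Fin 4) K) := by
    ext j i
    simp [monM_apply, mN, hψ, Matrix.one_apply]
  refine ⟨h.ab ⟨mZ M, mZ_mem hM⟩, orderOf_eq_prime (by rw [pow_two, ← map_mul, zz, map_one]) (ab_Z h),
    h.rl.1.2.of_dvd_nat (index_dvd_of_le ?_), idx2 (w := h.al ⟨mW M, mW_mem⟩) (n := h.al ⟨mN M, mN_mem hM⟩)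
      ((h.al_mem_center _).2 sc_N) (fun e => ?_) (by rw [← map_mul, zz, map_one]) ?_ fun c hc c2 => ?_⟩
  · rintro _ ⟨m, rfl⟩
    rw [mem_centralizer_singleton_iff, ← mul_inv_eq_iff_eq_mul, ← mul_inv_eq_one, ← map_inv, ← map_inv, ← map_mul,
      ← map_mul, ← map_mul]
    exact (h.rl.2 _).2 (conj_Z m.2)
  · exact hf_ne h (congrArg (fun t : T 4 M b => t.1.d 0) (h.al_injective (e.trans (map_one _).symm)))
  · rw [← map_inv, ← map_mul, ← map_mul, ← map_mul]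
    exact congrArg _ (Subtype.ext mWZ)
  · obtain ⟨l, hl⟩ := h.cen c hc
    have h1 : ((c : GL (Fin 4) K) : Matrix (Fin 4) (Fin 4) K) * (c : GL (Fin 4) K) = 1 :=
      congrArg (fun t : G0 G => ((t : GL (Fin 4) K) : Matrix (Fin 4) (Fin 4) K)) c2
    have h2 : l * l = 1 := by simpa [hl, smul_smul] using congrFun (congrFun h1 0) 0
    refine (mul_self_eq_one_iff.1 h2).imp (fun e => Subtype.ext (Units.ext ?_)) fun e => Subtype.ext (Units.ext ?_)
    · rw [hl, e, one_smul]; rfl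
    · rw [hl, e, ← hN]; rfl

end Four

end Qc

variable {M : ℕ} {b : Bool} {X : Type*} [Group X]

theorem IsTw.qc (h : IsTw 4 M b X) : QC X := by
  have := h.finite
  obtain ⟨K, _, G, Λ, ψ, h, ⟨e⟩⟩ := h
  have : Finite (PS G) := .of_equiv _ e.toEquiv
  exact (FE.of_equiv e.symm).qc (Qc.qc h)

theorem IsTw.fc (h : IsTw 4 M b X) : FC X := by
  have := h.finite
  obtain ⟨K, _, G, Λ, ψ, h, ⟨e⟩⟩ := h
  have : Finite (PS G) := .of_equiv _ e.toEquiv
  exact (FE.of_equiv e.symm).fc (Qc.fc h)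

end Cfsg.Agent.F5
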