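import Mathlib
import Cfsg.Agent.F5.CdT
import Cfsg.Agent.F5.Fe
import Cfsg.Agent.GT.PGroupIso

/-! The Sylow 2-subgroups for `n = 2, 3`; central elements for odd `n` (see stubs/Cfsg/Agent/F5/PLAN.md) -/

set_option autoImplicit false
set_option linter.unusedSectionVars false

namespace Cfsg.Agent.F5

open Subgroup

namespace Sy23

variable {n M : ℕ} {b : Bool}

theorem cast_pow (M k : ℕ) (h : M ≤ k) : (2 : ZMod (2 ^ M)) ^ k = 0 := by
  have : ((2 ^ k : ℕ) : ZMod (2 ^ M)) = 0 := (ZMod.natCast_eq_zero_iff _ _).2 (pow_dvd_pow 2 h)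
  exact_mod_cast this

theorem two_pow_mul_eq_zero {M j : ℕ} (hj : j ≤ M) (k : ℕ) :
    (k : ZMod (2 ^ M)) * 2 ^ j = 0 ↔ 2 ^ (M - j) ∣ k := by
  have h1 : (k : ZMod (2 ^ M)) * 2 ^ j = ((k * 2 ^ j : ℕ) : ZMod (2 ^ M)) := by push_cast; rfl
  rw [h1, ZMod.natCast_eq_zero_iff]
  have h2 : 2 ^ M = 2 ^ (M - j) * 2 ^ j := by rw [← pow_add]; congr 1; omega
  conv_lhs => rw [h2]
  exact Nat.mul_dvd_mul_iff_right (by positivity)

/-- The exponent of a primitive fourth root of unity. -/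
def q4 (M : ℕ) : ZMod (2 ^ M) := 2 ^ (M - 2)

theorem two_q4 (hM : 3 ≤ M) : 2 * q4 M = hf M := by
  rw [q4, hf, ← pow_succ']; congr 1; omega

theorem hf_q4 (hM : 3 ≤ M) : hf M * q4 M = 0 := by
  rw [q4, hf, ← pow_add]; exact cast_pow _ _ (by omega)

theorem two_hf (M : ℕ) : 2 * hf M = 0 := by rw [two_mul, hf_add_hf]

theorem hf_hf (hM : 3 ≤ M) : hf M * hf M = 0 := by
  rw [hf, ← pow_add]; exact cast_pow _ _ (by omega)

theorem four_ne (hM : 3 ≤ M) : (4 : ZMod (2 ^ M)) ≠ 0 := by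
  intro h
  have h1 : ((1 : ℕ) : ZMod (2 ^ M)) * 2 ^ 2 = 0 := by rw [Nat.cast_one, one_mul, ← h]; norm_num
  have h2 := (two_pow_mul_eq_zero (by omega) 1).1 h1
  have h3 : 2 ∣ 2 ^ (M - 2) := dvd_pow_self 2 (by omega)
  have := h3.trans h2
  omega

theorem ee_ee (hM : 3 ≤ M) : ee M b * ee M b = 1 := by
  have h1 := two_hf M
  have h2 := hf_hf hM
  cases b
  · simp only [ee, Bool.false_eq_true, if_false]; linear_combination h2 - h1
  · simp only [ee, if_true]; linear_combination h2 + h1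

theorem ee_hf (hM : 3 ≤ M) : ee M b * hf M = hf M := by
  have h1 := two_hf M
  have h2 := hf_hf hM
  cases b
  · simp only [ee, Bool.false_eq_true, if_false]; linear_combination h2 - h1
  · simp only [ee, if_true]; linear_combination h2

theorem ee_f : ee M false = -1 + hf M := rfl

theorem ee_t : ee M true = 1 + hf M := rfl

theorem pb_f : pb n false = pi n := rfl

theorem pb_t : pb n true = 1 := rfl

/-- Diagonal elements. -/
def dia {N : ℕ} (d : Fin n → ZMod N) : Mon n N := ⟨d, 1⟩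

@[simp] theorem dia_d {N : ℕ} (d : Fin n → ZMod N) : (dia d).d = d := rfl

@[simp] theorem dia_s {N : ℕ} (d : Fin n → ZMod N) : (dia d).s = 1 := rfl

theorem dia_pow {N : ℕ} (d : Fin n → ZMod N) (k : ℕ) : dia d ^ k = dia fun i => (k : ZMod N) * d i := by
  induction k with
  | zero => exact Mon.ext (funext fun i => by simp) rfl
  | succ k ih =>
    rw [pow_succ, ih]
    exact Mon.ext (funext fun i => by simp; ring) (by simp)

theorem dia_eq_one {N : ℕ} {d : Fin n → ZMod N} : dia d = 1 ↔ ∀ i, d i = 0 :=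
  ⟨fun h i => by simpa using congrArg (fun m => m.d i) h,
    fun h => Mon.ext (funext fun i => by simp [h]) rfl⟩

theorem pow_s {N : ℕ} (m : Mon n N) (h : m.s = 1) (k : ℤ) : (m ^ k).s = 1 := by
  have : m ^ k ∈ zpowers m := zpow_mem_zpowers m k
  generalize m ^ k = x at this
  rw [zpowers_eq_closure] at this
  induction this using closure_induction with
  | mem x hx => rw [hx, h]
  | one => rfl
  | mul x y _ _ hx hy => rw [Mon.mul_s, hx, hy, one_mul]
  | inv x _ hx => rw [Mon.inv_s, hx, inv_one]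

theorem dia_mem {d : Fin n → ZMod (2 ^ M)} (h1 : ∀ i, d (pb n b i) = ee M b * d i)
    (h2 : ∑ i, d i = 0) : dia d ∈ T n M b :=
  mem_T.2 ⟨by simp, h1, by simp [dg, h2]⟩

theorem pi_mem {d : Fin n → ZMod (2 ^ M)} (h1 : ∀ i, d (pb n b i) = ee M b * d i)
    (h2 : (∑ i, d i + if Equiv.Perm.sign (pi n) = 1 then 0 else hf M) = 0) :
    (⟨d, pi n⟩ : Mon n (2 ^ M)) ∈ T n M b :=
  mem_T.2 ⟨rfl, h1, h2⟩

theorem pi_pi (i : Fin n) : pi n (pi n i) = i := piF_invol n i

theorem pi_mul_pi : pi n * pi n = 1 := Equiv.ext pi_pi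

theorem pi20 : pi 2 0 = 1 := by decide
theorem pi21 : pi 2 1 = 0 := by decide
theorem pi30 : pi 3 0 = 1 := by decide
theorem pi31 : pi 3 1 = 0 := by decide
theorem pi32 : pi 3 2 = 2 := by decide
theorem pi50 : pi 5 0 = 1 := by decide
theorem pi51 : pi 5 1 = 0 := by decide
theorem pi52 : pi 5 2 = 3 := by decide
theorem pi53 : pi 5 3 = 2 := by decide
theorem pi54 : pi 5 4 = 4 := by decide
theorem sign2 : Equiv.Perm.sign (pi 2) ≠ 1 := by decide
theorem sign3 : Equiv.Perm.sign (pi 3) ≠ 1 := by decide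
theorem sign5 : Equiv.Perm.sign (pi 5) = 1 := by decide

theorem sc_eq_one (hn : n = 3 ∨ n = 5) {m : Mon n (2 ^ M)} (hm : m ∈ T n M b) (h : Sc m) : m = 1 := by
  have hn0 : 0 < n := by omega
  have h1 : dg m = 0 := (mem_T.1 hm).2.2
  have h2 : ∀ i, m.d i = m.d ⟨0, hn0⟩ := fun i => h.2 i _
  rw [dg, h.1, Finset.sum_congr rfl fun i _ => h2 i] at h1
  simp only [Finset.sum_const, Finset.card_univ, Fintype.card_fin, nsmul_eq_mul, map_one, if_true,
    add_zero] at h1
  have hu : IsUnit (n : ZMod (2 ^ M)) := by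
    rw [ZMod.isUnit_iff_coprime]
    apply Nat.Coprime.pow_right
    rcases hn with rfl | rfl <;> norm_num
  have h3 := (hu.mul_right_eq_zero).1 h1
  exact Mon.ext (funext fun i => by rw [h2, h3]; rfl) h.1

variable {X : Type*} [Group X] [Finite X]

theorem inj {α : T n M b →* X} (h : Rl n M b α) (hn : n = 3 ∨ n = 5) : Function.Injective α := by
  rw [injective_iff_map_eq_one]
  intro m hm
  exact Subtype.ext (sc_eq_one hn m.2 ((h.2 m).1 hm))

theorem iso {α : T n M b →* X} (h : Rl n M b α) (hn : n = 3 ∨ n = 5) (S : Sylow 2 X) :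
    Nonempty (T n M b ≃* (S : Subgroup X)) := by
  obtain ⟨e⟩ := h.1.nonempty_equiv S
  exact ⟨(MonoidHom.ofInjective (inj h hn)).trans e.symm⟩

theorem order_dia {d : Fin n → ZMod (2 ^ M)} (hd : dia d ∈ T n M b) {j : ℕ} (hj : j ≤ M)
    (h : ∀ i, 2 ^ (M - j) * d i = 0) (i : Fin n) (hi : d i = 2 ^ j) :
    orderOf (⟨dia d, hd⟩ : T n M b) = 2 ^ (M - j) := by
  rw [← Subgroup.orderOf_coe]
  apply Nat.dvd_antisymm
  · apply orderOf_dvd_of_pow_eq_one
    rw [dia_pow, dia_eq_one]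
    intro i
    simpa using h i
  · have h1 := pow_orderOf_eq_one (dia d)
    rw [dia_pow, dia_eq_one] at h1
    have h2 := h1 i
    rw [hi] at h2
    exact (two_pow_mul_eq_zero hj _).1 h2

theorem z3_mem (hM : 3 ≤ M) : (⟨![0, 0, hf M], pi 3⟩ : Mon 3 (2 ^ M)) ∈ T 3 M b := by
  refine pi_mem (fun i => ?_) ?_
  · cases b <;> fin_cases i <;> simp [pb_f, pb_t, pi30, pi31, pi32, ee_hf hM]
  · simp [Fin.sum_univ_three, sign3, hf_add_hf]

theorem order_z3 (hM : 3 ≤ M) : orderOf (⟨_, z3_mem hM⟩ : T 3 M b) = 2 := by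
  rw [← Subgroup.orderOf_coe]
  refine orderOf_eq_prime ?_ fun h => ?_
  · rw [sq]
    refine Mon.ext (funext fun i => ?_) pi_mul_pi
    fin_cases i <;> simp [pi30, pi31, pi32, hf_add_hf]
  · have h1 : pi 3 = 1 := congrArg Mon.s h
    exact absurd h1 (by decide)

theorem u3_mem (hM : 3 ≤ M) : dia ![1, ee M false, hf M] ∈ T 3 M false := by
  refine dia_mem (fun i => ?_) ?_
  · fin_cases i <;> simp [pb_f, pi30, pi31, pi32, ee_hf hM, ee_ee hM]
  · simp [Fin.sum_univ_three, ee_f, hf_add_hf]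

theorem fix_iff {m : Mon n (2 ^ M)} (hm : m ∈ T n M b) (i : Fin n) :
    pi n (m.s i) = m.s i ↔ pi n i = i := by
  have h1 : m.s (pi n i) = pi n (m.s i) := DFunLike.congr_fun (mem_T.1 hm).1 i
  rw [← h1, EmbeddingLike.apply_eq_iff_eq]

theorem ne_one (hM : 3 ≤ M) : ee M false ≠ 1 ∧ (0 : ZMod (2 ^ M)) ≠ 1 ∧ hf M ≠ 1 := by
  have h4 := four_ne hM
  have h2 := two_hf M
  refine ⟨fun h => h4 ?_, fun h => h4 ?_, fun h => h4 ?_⟩
  · rw [ee_f] at h
    linear_combination h2 - 2 * h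
  · linear_combination -4 * h
  · linear_combination 2 * h2 - 4 * h

theorem comm_dia {N : ℕ} {m : Mon n N} {d : Fin n → ZMod N} (h : m * dia d = dia d * m) (i : Fin n) :
    d (m.s i) = d i := by
  have h1 := congrArg (fun x => x.d i) h
  simp only [Mon.mul_d, dia_d, dia_s, Equiv.Perm.one_apply] at h1
  linear_combination -h1

theorem s_eq_one (hn : n = 3 ∨ n = 5) (hM : 3 ≤ M) {m : Mon n (2 ^ M)} (hm : m ∈ T n M false)
    (h : ∀ x ∈ T n M false, m * x = x * m) : m.s = 1 := by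
  obtain ⟨e1, e2, e3⟩ := ne_one hM
  have hc : ∀ i, m.s (pi n i) = pi n (m.s i) := fun i => DFunLike.congr_fun (mem_T.1 hm).1 i
  rcases hn with rfl | rfl
  · have h0 : m.s 0 = 0 := by
      have h1 := comm_dia (h _ (u3_mem hM)) 0
      generalize m.s 0 = j at h1
      fin_cases j <;> simp_all
    have h1 : m.s 1 = 1 := by rw [← pi30, hc, h0]
    have h2 : m.s 2 = 2 := by
      have h1 := (fix_iff hm 2).2 pi32
      generalize m.s 2 = j at h1
      revert j; decide
    ext i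
    fin_cases i <;> simp [h0, h1, h2]
  · have u1 : dia ![1, ee M false, 0, 0, hf M] ∈ T 5 M false := by
      refine dia_mem (fun i => ?_) ?_
      · fin_cases i <;> simp [pb_f, pi50, pi51, pi52, pi53, pi54, ee_hf hM, ee_ee hM]
      · simp [Fin.sum_univ_five, ee_f, hf_add_hf]
    have u2 : dia ![0, 0, 1, ee M false, hf M] ∈ T 5 M false := by
      refine dia_mem (fun i => ?_) ?_
      · fin_cases i <;> simp [pb_f, pi50, pi51, pi52, pi53, pi54, ee_hf hM, ee_ee hM]
      · simp [Fin.sum_univ_five, ee_f, hf_add_hf]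
    have h0 : m.s 0 = 0 := by
      have h1 := comm_dia (h _ u1) 0
      generalize m.s 0 = j at h1
      fin_cases j <;> simp_all
    have h1 : m.s 1 = 1 := by rw [← pi50, hc, h0]
    have h2 : m.s 2 = 2 := by
      have h1 := comm_dia (h _ u2) 2
      generalize m.s 2 = j at h1
      fin_cases j <;> simp_all
    have h3 : m.s 3 = 3 := by rw [← pi52, hc, h2]
    have h4 : m.s 4 = 4 := by
      have h1 := (fix_iff hm 4).2 pi54
      generalize m.s 4 = j at h1
      revert j; decide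
    ext i
    fin_cases i <;> simp [h0, h1, h2, h3, h4]

theorem sq_eq_one (hn : n = 3 ∨ n = 5) (hM : 3 ≤ M) {m : Mon n (2 ^ M)} (hm : m ∈ T n M false)
    (h : ∀ x ∈ T n M false, m * x = x * m) : m ^ 2 = 1 := by
  have hs := s_eq_one hn hM hm h
  obtain ⟨y, hy, hys⟩ : ∃ y ∈ T n M false, y.s = pi n := by
    rcases hn with rfl | rfl
    · exact ⟨_, z3_mem hM, rfl⟩
    · exact ⟨⟨0, pi 5⟩, pi_mem (fun i => by simp) (by simp [sign5]), rfl⟩
  rw [sq]
  refine Mon.ext (funext fun i => ?_) (by simp [hs])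
  have h1 := congrArg (fun x => x.d i) (h y hy)
  simp only [Mon.mul_d, hs, hys, Equiv.Perm.one_apply] at h1 ⊢
  have h2 := (mem_T.1 hm).2.1 i
  rw [pb_f, ee_f] at h2
  have h3 : 2 * m.d i = hf M * m.d i := by linear_combination h2 - h1
  have h4 := two_q4 hM
  have h5 := hf_q4 hM
  rw [Mon.one_d]
  linear_combination (1 + q4 M) * h3 - m.d i * h4 + m.d i * h5

end Sy23

open Sy23

variable {n M : ℕ} {b : Bool} {X : Type*} [Group X] [Finite X]

theorem Rl.dihedral {α : T 2 M b →* X} (h : Rl 2 M b α) (hM : 3 ≤ M) (S : Sylow 2 X) :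
    Nonempty ((S : Subgroup X) ≃* DihedralGroup (2 ^ (M - 2))) := by
  obtain ⟨e⟩ := h.1.nonempty_equiv S
  have h2 := two_hf M
  have hc : Nat.card α.range = 2 ^ (M - 2) * 2 := by
    rw [h.card (by omega) hM, ← pow_succ]
    congr 1
    cases b <;> simp [exT, exZ] <;> omega
  have hk : ∀ m, α.rangeRestrict m = 1 ↔ Sc (m : Mon 2 (2 ^ M)) := fun m => by
    rw [← h.2, Subtype.ext_iff]; rfl
  have hx : dia ![2, -2] ∈ T 2 M b := by
    refine dia_mem (fun i => ?_) (by simp)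
    cases b <;> fin_cases i <;> simp [pb_f, pb_t, pi20, pi21, ee_f, ee_t, add_mul, mul_comm (hf M) 2, h2]
  obtain ⟨y, hy, hys⟩ : ∃ y ∈ T 2 M b, y.s = pi 2 := by
    cases b
    · refine ⟨⟨![1, ee M false], pi 2⟩, pi_mem (fun i => ?_) ?_, rfl⟩
      · fin_cases i <;> simp [pb_f, pi20, pi21, ee_ee hM]
      · simp [sign2, ee_f, hf_add_hf]
    · refine ⟨⟨![0, hf M], pi 2⟩, pi_mem (fun i => ?_) ?_, rfl⟩
      · fin_cases i <;> simp [pb_t, ee_hf hM]
      · simp [sign2, hf_add_hf]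
  set a := α.rangeRestrict ⟨_, hx⟩ with ha
  set t := α.rangeRestrict ⟨y, hy⟩ with ht
  have hp : ∀ k : ℕ, a ^ k = 1 ↔ 2 ^ (M - 2) ∣ k := fun k => by
    rw [ha, ← map_pow, hk, Subgroup.coe_pow, dia_pow, ← two_pow_mul_eq_zero (by omega)]
    constructor
    · intro h1
      have h3 := h1.2 0 1
      simp only [dia_d, Matrix.cons_val_zero, Matrix.cons_val_one] at h3
      linear_combination h3
    · intro h1
      refine ⟨rfl, fun i j => ?_⟩
      fin_cases i <;> fin_cases j <;> simp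
      · linear_combination h1
      · linear_combination -h1
  have ho : orderOf a = 2 ^ (M - 2) :=
    Nat.dvd_antisymm (orderOf_dvd_of_pow_eq_one ((hp _).2 dvd_rfl)) ((hp _).1 (pow_orderOf_eq_one a))
  have hi : (zpowers a).index = 2 := by
    have h1 := (zpowers a).card_mul_index
    rw [Nat.card_zpowers, ho, hc] at h1
    exact Nat.eq_of_mul_eq_mul_left (by positivity) h1
  have hn : t ∉ zpowers a := by
    rintro ⟨k, hk'⟩
    have h1 : α.rangeRestrict (⟨y, hy⟩⁻¹ * ⟨_, hx⟩ ^ k) = 1 := by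
      rw [map_mul, map_inv, map_zpow, ← ha, ← ht, ← hk', inv_mul_cancel]
    have h3 := ((hk _).1 h1).1
    rw [Subgroup.coe_mul, Subgroup.coe_zpow, Mon.mul_s, pow_s _ rfl, mul_one, Subgroup.coe_inv,
      Mon.inv_s, hys] at h3
    exact absurd h3 (by decide)
  have hr : t * a * t⁻¹ = a⁻¹ := by
    rw [mul_inv_eq_iff_eq_mul, ha, ht, ← map_inv, ← map_mul, ← map_mul]
    congr 1
    refine Subtype.ext (Mon.ext (funext fun i => ?_) (by simp))
    fin_cases i <;> simp [hys, pi20, pi21, add_comm]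
  have hs : t ^ 2 = 1 := by
    rw [ht, ← map_pow, hk, Subgroup.coe_pow, sq]
    refine ⟨by rw [Mon.mul_s, hys, pi_mul_pi], fun i j => ?_⟩
    fin_cases i <;> fin_cases j <;> simp [hys, pi20, pi21, add_comm]
  obtain ⟨f, -⟩ := GT.PG.exists_mulEquiv_dihedral ho hi hn hr hs
  exact ⟨e.trans f⟩

theorem Rl.quasiDihedral {α : T 3 M false →* X} (h : Rl 3 M false α) (hM : 3 ≤ M) (S : Sylow 2 X) :
    Cfsg.IsQuasiDihedral (S : Subgroup X) := by
  obtain ⟨e⟩ := iso h (Or.inl rfl) S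
  refine ⟨M, hM, ?_, e ⟨_, u3_mem hM⟩, e ⟨_, z3_mem hM⟩, ?_, ?_, ?_⟩
  · rw [← Nat.card_congr e.toEquiv, card_T (by omega) hM]
    congr 1
    simp [exT]
  · rw [MulEquiv.orderOf_eq]
    exact order_dia (j := 0) _ (by omega) (fun i => by rw [cast_pow _ _ (by omega), zero_mul]) 0
      (by simp)
  · rw [MulEquiv.orderOf_eq, order_z3 hM]
  · rw [mul_inv_eq_iff_eq_mul, ← map_pow, ← map_mul, ← map_mul]
    congr 1
    have h1 : ((2 ^ (M - 1) - 1 : ℕ) : ZMod (2 ^ M)) = ee M false := by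
      rw [Nat.cast_sub Nat.one_le_two_pow, ee_f, hf]
      push_cast
      ring
    refine Subtype.ext ?_
    rw [Subgroup.coe_mul, Subgroup.coe_mul, Subgroup.coe_pow, dia_pow, h1]
    refine Mon.ext (funext fun i => ?_) (by simp)
    fin_cases i <;> simp [pi30, pi31, pi32, ee_ee hM, ee_hf hM]

theorem Rl.wreathed {α : T 3 M true →* X} (h : Rl 3 M true α) (hM : 3 ≤ M) (S : Sylow 2 X) :
    Cfsg.IsWreathed (S : Subgroup X) := by
  obtain ⟨e⟩ := iso h (Or.inl rfl) S
  have h2 := two_hf M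
  have hx : dia ![2, 0, -2] ∈ T 3 M true := by
    refine dia_mem (fun i => ?_) (by simp [Fin.sum_univ_three])
    fin_cases i <;> simp [pb_t, ee_t, add_mul, mul_comm (hf M) 2, h2]
  have hy : dia ![0, 2, -2] ∈ T 3 M true := by
    refine dia_mem (fun i => ?_) (by simp [Fin.sum_univ_three])
    fin_cases i <;> simp [pb_t, ee_t, add_mul, mul_comm (hf M) 2, h2]
  have h3 : (2 : ZMod (2 ^ M)) ^ (M - 1) * 2 = 0 := by
    rw [← pow_succ]; exact cast_pow _ _ (by omega)
  refine ⟨M - 1, by omega, ?_, e ⟨_, hx⟩, e ⟨_, hy⟩, e ⟨_, z3_mem hM⟩, ?_, ?_, ?_, ?_, ?_⟩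
  · rw [← Nat.card_congr e.toEquiv, card_T (by omega) hM]
    congr 1
    simp [exT, mul_comm]
  · rw [MulEquiv.orderOf_eq]
    exact order_dia (j := 1) _ (by omega) (fun i => by fin_cases i <;> simp [h3]) 0 (by simp)
  · rw [← map_mul, ← map_mul]
    congr 1
    refine Subtype.ext (Mon.ext (funext fun i => ?_) (by simp))
    simp [add_comm]
  · rw [eq_bot_iff]
    intro g hg
    obtain ⟨k, hk⟩ := (mem_powers_iff_mem_zpowers).2 hg.1
    obtain ⟨l, hl⟩ := (mem_powers_iff_mem_zpowers).2 hg.2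
    simp only [← map_pow] at hk hl
    have h4 := congrArg Subtype.val (e.injective (hk.trans hl.symm))
    rw [Subgroup.coe_pow, Subgroup.coe_pow, dia_pow, dia_pow] at h4
    have h5 := congrArg (fun x => x.d 0) h4
    simp only [dia_d, Matrix.cons_val_zero, mul_zero] at h5
    rw [mem_bot, ← hk, EmbeddingLike.map_eq_one_iff, Subtype.ext_iff, Subgroup.coe_pow, dia_pow,
      Subgroup.coe_one, dia_eq_one]
    intro i
    fin_cases i <;> simp [h5]
  · rw [MulEquiv.orderOf_eq, order_z3 hM]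
  · rw [mul_inv_eq_iff_eq_mul, ← map_mul, ← map_mul]
    congr 1
    refine Subtype.ext (Mon.ext (funext fun i => ?_) (by simp))
    fin_cases i <;> simp [pi30, pi31, pi32, add_comm]

theorem Rl.zc {α : T n M true →* X} (h : Rl n M true α) (hn : n = 3 ∨ n = 5) (hM : 3 ≤ M) :
    ZC X := by
  have h1 := hf_q4 hM
  have h4 : (2 : ZMod (2 ^ M)) ^ (M - (M - 2)) * q4 M = 0 := by
    rw [q4, ← pow_add]; exact cast_pow _ _ (by omega)
  have hc : dia (fun i => if pi n i = i then (1 - (n : ZMod (2 ^ M))) * q4 M else q4 M) ∈ T n M true := by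
    refine dia_mem (fun i => ?_) ?_
    · rw [pb_t, ee_t, Equiv.Perm.one_apply]
      split_ifs
      · linear_combination (-(1 - (n : ZMod (2 ^ M)))) * h1
      · linear_combination -h1
    · rcases hn with rfl | rfl
      · simp [Fin.sum_univ_three, pi30, pi31, pi32]; ring
      · simp [Fin.sum_univ_five, pi50, pi51, pi52, pi53, pi54]; ring
  refine ⟨α ⟨_, hc⟩, ?_, ?_⟩
  · rw [orderOf_injective α (inj h hn)]
    have h5 : 4 = 2 ^ (M - (M - 2)) := by rw [show M - (M - 2) = 2 by omega]; rfl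
    rw [h5]
    refine order_dia _ (by omega) (fun i => ?_) ⟨0, by omega⟩ ?_
    · split_ifs
      · linear_combination (1 - (n : ZMod (2 ^ M))) * h4
      · exact h4
    · rcases hn with rfl | rfl
      · exact if_neg (show pi 3 0 ≠ 0 by decide)
      · exact if_neg (show pi 5 0 ≠ 0 by decide)
  · refine h.1.2.of_dvd_nat (index_dvd_of_le ?_)
    rintro _ ⟨m, rfl⟩
    rw [mem_centralizer_singleton_iff, ← map_mul, ← map_mul]
    congr 1
    refine Subtype.ext (Mon.ext (funext fun i => ?_) (by simp))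
    simp [fix_iff m.2, add_comm]

theorem Rl.not_zc {α : T n M false →* X} (h : Rl n M false α) (hn : n = 3 ∨ n = 5) (hM : 3 ≤ M) :
    ¬ ZC X := by
  rintro ⟨c, hc, ho⟩
  have hcc : c ∈ centralizer ({c} : Set X) := mem_centralizer_singleton_iff.2 rfl
  have hp : IsPGroup 2 (zpowers (⟨c, hcc⟩ : centralizer ({c} : Set X))) :=
    IsPGroup.of_card (n := 2) (by rw [Nat.card_zpowers, ← Subgroup.orderOf_coe, hc]; rfl)
  obtain ⟨Q, hQ⟩ := hp.exists_le_sylow
  have hi : ¬ 2 ∣ ((Q : Subgroup (centralizer ({c} : Set X))).map (Subgroup.subtype _)).index := by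
    rw [index_map_subtype]
    intro hd
    rcases (Nat.Prime.dvd_mul Nat.prime_two).1 hd with h1 | h1
    · exact Q.not_dvd_index h1
    · exact ho.not_two_dvd_nat h1
  obtain ⟨S, hS⟩ := h.1.exists_sylow
  obtain ⟨g, hg⟩ := MulAction.exists_smul_eq X ((Q.isPGroup'.map _).toSylow hi) S
  have hm : ∀ x : X, x ∈ α.range ↔
      g⁻¹ * x * g ∈ (Q : Subgroup (centralizer ({c} : Set X))).map (Subgroup.subtype _) := fun x => by
    rw [← hS, ← hg, Sylow.coe_subgroup_smul, mem_pointwise_smul_iff_inv_smul_mem]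
    simp
  obtain ⟨m, hmc⟩ : g * c * g⁻¹ ∈ α.range := by
    rw [hm]
    refine ⟨⟨c, hcc⟩, hQ (mem_zpowers _), ?_⟩
    simp [mul_assoc]
  have h2 : (m : Mon n (2 ^ M)) ^ 2 = 1 := by
    refine sq_eq_one hn hM m.2 fun x hx => ?_
    obtain ⟨y, -, hy⟩ := (hm _).1 ⟨⟨x, hx⟩, rfl⟩
    have h1 := mem_centralizer_singleton_iff.1 y.2
    rw [Subgroup.coe_subtype] at hy
    rw [hy] at h1
    have h3 : α (m * ⟨x, hx⟩) = α (⟨x, hx⟩ * m) := by
      rw [map_mul, map_mul, hmc]
      calc g * c * g⁻¹ * α ⟨x, hx⟩ = g * (c * (g⁻¹ * α ⟨x, hx⟩ * g)) * g⁻¹ := by group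
        _ = _ := by rw [← h1]; group
    exact congrArg Subtype.val (inj h hn h3)
  have h3 : (g * c * g⁻¹) ^ 2 = 1 := by
    rw [← hmc, ← map_pow, show m ^ 2 = 1 from Subtype.ext h2, map_one]
  rw [conj_pow, conj_eq_one_iff] at h3
  have h4 := orderOf_dvd_of_pow_eq_one h3
  rw [hc] at h4
  omega

end Cfsg.Agent.F5
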