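import Mathlib
import Cfsg.Agent.F5.Mo
import Cfsg.Agent.F5.Num
import Cfsg.Agent.Cl.Transport

/-! Transport of the linear and unitary groups along a change of basis. -/

set_option autoImplicit false
set_option linter.unusedSectionVars false

namespace Cfsg.Agent.F5.TwA

open Subgroup

variable {n M : ℕ} {b : Bool} {K : Type} [Field K] {ψ : AddChar (ZMod (2 ^ M)) K}

/-- The group after a change of basis. -/
def tw (H : Subgroup (GL (Fin n) K)) (c : GL (Fin n) K) : Subgroup (GL (Fin n) K) :=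
  H.comap (MulAut.conj c).toMonoidHom

theorem mem_tw {H : Subgroup (GL (Fin n) K)} {c g : GL (Fin n) K} : g ∈ tw H c ↔ c * g * c⁻¹ ∈ H := Iff.rfl

theorem det_conj (c g : GL (Fin n) K) :
    Matrix.GeneralLinearGroup.det (c * g * c⁻¹) = Matrix.GeneralLinearGroup.det g := by
  rw [map_mul, map_mul, map_inv, mul_inv_cancel_comm]

theorem mem_G0 {H : Subgroup (GL (Fin n) K)} {g : GL (Fin n) K} :
    g ∈ G0 H ↔ g ∈ H ∧ (g : Matrix (Fin n) (Fin n) K).det = 1 :=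
  and_congr_right fun _ => Units.ext_iff

/-- The special groups are isomorphic. -/
def twE (H : Subgroup (GL (Fin n) K)) (c : GL (Fin n) K) : G0 (tw H c) ≃* G0 H where
  toFun g := ⟨c * g * c⁻¹, g.2.1, (det_conj c g).trans g.2.2⟩
  invFun g := ⟨c⁻¹ * g * c, mem_tw.2 (by simpa [mul_assoc] using g.2.1), by
    have := (det_conj c⁻¹ g).trans g.2.2
    rwa [inv_inv] at this⟩
  left_inv g := Subtype.ext (by simp [mul_assoc])
  right_inv g := Subtype.ext (by simp [mul_assoc])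
  map_mul' g h := Subtype.ext (by simp [mul_assoc])

theorem conj_smul (c : GL (Fin n) K) {g : GL (Fin n) K} {l : K} (h : (g : Matrix (Fin n) (Fin n) K) = l • 1) :
    c * g * c⁻¹ = g := by
  refine mul_inv_eq_iff_eq_mul.2 (Units.ext ?_)
  rw [Units.val_mul, Units.val_mul, h, Matrix.mul_smul, Matrix.smul_mul, mul_one, one_mul]

theorem isTw_of (hn : 2 ≤ n ∧ n ≤ 5) (hM : 3 ≤ M) [Finite K] (two : (2 : K) ≠ 0) (inj : Function.Injective ψ)
    (H : Subgroup (GL (Fin n) K)) (Λ : Subgroup Kˣ) (c : GL (Fin n) K) {S : Type*} [Group S] (e : S ≃* G0 H)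
    (ctl : ∀ (Γ : Type) [Group Γ] [Finite Γ], IsPGroup 2 Γ → ∀ a a' : Γ →* GL (Fin n) K,
      (∀ γ, a γ ∈ H) → (∀ γ, a' γ ∈ H) → (∃ g : GL (Fin n) K, ∀ γ, a' γ = g * a γ * g⁻¹) →
      ∃ g ∈ H, ∀ γ, a' γ = g * a γ * g⁻¹)
    (mem : ∀ m ∈ T n M b, c * mon ψ m * c⁻¹ ∈ H) (card : padicValNat 2 (Nat.card S) = exT n M b)
    (det : ∀ g ∈ H, Matrix.GeneralLinearGroup.det g ∈ Λ)
    (scal : ∀ l ∈ Λ, ∀ g : GL (Fin n) K, (g : Matrix (Fin n) (Fin n) K) = (l : K) • 1 → g ∈ H)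
    (diag : ∀ l ∈ Λ, ∀ i, pb n b i = i → ∀ g : GL (Fin n) K,
      (g : Matrix (Fin n) (Fin n) K) = Matrix.diagonal (Function.update 1 i (l : K)) → c * g * c⁻¹ ∈ H)
    (cen : ∀ s ∈ center S, ∃ l : K, ((e s : GL (Fin n) K) : Matrix (Fin n) (Fin n) K) = l • 1) :
    IsTw n M b (S ⧸ center S) := by
  refine ⟨K, inferInstance, tw H c, Λ, ψ, ⟨hn, hM, inferInstance, two, inj, fun Γ _ _ hΓ a a' ha ha' ⟨g, hg⟩ => ?_,
    fun m hm => mem_G0.2 ⟨mem m hm, ?_⟩, ?_, fun g hg => det_conj c g ▸ det _ hg,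
    fun l hl g hg => mem_tw.2 ((conj_smul c hg).symm ▸ scal l hl g hg), diag, fun g hg => ?_⟩,
    ⟨Cl.centerQuotCongr (e.trans (twE H c).symm)⟩⟩
  · obtain ⟨k, hk, h⟩ := ctl Γ hΓ ((MulAut.conj c).toMonoidHom.comp a) ((MulAut.conj c).toMonoidHom.comp a') ha ha'
      ⟨c * g * c⁻¹, fun γ => by simp [hg, mul_assoc]⟩
    refine ⟨c⁻¹ * k * c, mem_tw.2 (by simpa [mul_assoc] using hk), fun γ => ?_⟩
    have h1 : c * a' γ * c⁻¹ = k * (c * a γ * c⁻¹) * k⁻¹ := h γ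
    calc a' γ = c⁻¹ * (c * a' γ * c⁻¹) * c := by group
      _ = _ := by rw [h1]; group
  · rw [coe_mon, det_monM (by omega) inj, hm.2.2, AddChar.map_zero_eq_one]
  · rw [← card, Nat.card_congr (e.trans (twE H c).symm).toEquiv]
  · obtain ⟨l, hl⟩ := cen (e.symm (twE H c g)) ((Cl.mulEquiv_mem_center_iff ((twE H c).trans e.symm) g).2 hg)
    rw [e.apply_symm_apply] at hl
    have h1 := conj_smul c⁻¹ hl
    refine ⟨l, hl ▸ congrArg Units.val (Eq.trans ?_ h1)⟩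
    change (g : GL (Fin n) K) = c⁻¹ * (c * g * c⁻¹) * c⁻¹⁻¹
    group

/-- The matrix of the twisting permutation. -/
def JJ (n : ℕ) (b : Bool) (N : ℕ) : Mon n N := ⟨0, pb n b⟩

theorem pb_pb (i : Fin n) : pb n b (pb n b i) = i := by
  cases b
  exacts [piF_invol n i, rfl]

theorem JJ_sq {N : ℕ} : JJ n b N * JJ n b N = 1 :=
  Mon.ext (funext fun _ => add_zero _) (Equiv.ext pb_pb)

theorem J_sq : monM ψ (JJ n b _) * monM ψ (JJ n b _) = 1 := by rw [← map_mul, JJ_sq, map_one]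

theorem J_apply (j i : Fin n) : monM ψ (JJ n b _) j i = if j = pb n b i then 1 else 0 := by
  simp [monM_apply, JJ]

theorem update_pb {i : Fin n} (hi : pb n b i = i) (l : K) (j : Fin n) :
    Function.update (1 : Fin n → K) i l (pb n b j) = Function.update (1 : Fin n → K) i l j := by
  by_cases h : j = i
  · rw [h, hi]
  · rw [Function.update_of_ne h, Function.update_of_ne fun e => h (by rw [← pb_pb (b := b) j, e, hi])]
    rfl

theorem map_monM {σ : K →+* K} {r : ZMod (2 ^ M)} (hσ : ∀ x, σ (ψ x) = ψ (r * x)) (m : Mon n (2 ^ M)) :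
    (monM ψ m).map σ = monM ψ ⟨fun i => r * m.d i, m.s⟩ := by
  ext j i
  rw [Matrix.map_apply, monM_apply, monM_apply, apply_ite σ, hσ, map_zero]

theorem card_ne {Γ L : Type*} [Group Γ] [Finite Γ] [Field L] (h : IsPGroup 2 Γ) (two : (2 : L) ≠ 0) :
    (Nat.card Γ : L) ≠ 0 := by
  obtain ⟨k, hk⟩ := IsPGroup.iff_card.1 h
  rw [hk, Nat.cast_pow]
  exact pow_ne_zero _ two

theorem two_ne {L : Type*} [Field L] [Finite L] (h : Odd (Nat.card L)) : (2 : L) ≠ 0 := fun e => by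
  have := Fintype.ofFinite L
  have h1 : (Fintype.card L : L) = 0 := FiniteField.cast_card_eq_zero L
  obtain ⟨k, hk⟩ := h
  rw [← Nat.card_eq_fintype_card, hk] at h1
  simp [e] at h1

end Cfsg.Agent.F5.TwA
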