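import Mathlib
import Cfsg.Agent.F5.Mo
import Cfsg.Agent.F5.Num
import Cfsg.Agent.F5.TwA
import Cfsg.Agent.Cl.ClassU
import Cfsg.Agent.Cl.UOrder

/-! The unitary groups -/

set_option autoImplicit false
set_option linter.unusedSectionVars false

namespace Cfsg.Agent.F5

open Subgroup

namespace TwM

open TwA Cl Cl.Cls

variable {n M q : ℕ} {b : Bool} {K : Type} [Field K] {ψ : AddChar (ZMod (2 ^ M)) K} {σ : K →+* K}

theorem uStar_monM {r : ZMod (2 ^ M)} (hσ : ∀ x, σ (ψ x) = ψ (r * x)) (m : Mon n (2 ^ M)) :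
    uStar σ (monM ψ m) = monM ψ ⟨fun i => r * m.d (m.s⁻¹ i), m.s⁻¹⟩ := by
  ext j i
  rw [uStar_apply, monM_apply, monM_apply, apply_ite σ, hσ, map_zero]
  by_cases h : i = m.s j
  · simp [h]
  · rw [if_neg h, if_neg fun e => h (by simp [e])]

theorem conj_mem (h : UField σ q) {c g : GL (Fin n) K} {J : Matrix (Fin n) (Fin n) K}
    (hc : uStar σ (c : Matrix (Fin n) (Fin n) K) * c = J)
    (hg : uStar σ (g : Matrix (Fin n) (Fin n) K) * J * g = J) : c * g * c⁻¹ ∈ GU n K q := by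
  rw [mem_GU_iff_uStar h, Units.val_mul, Units.val_mul, uStar_mul, uStar_mul]
  calc _ = uStar σ ((c⁻¹ : GL (Fin n) K) : Matrix (Fin n) (Fin n) K) * (uStar σ (g : Matrix (Fin n) (Fin n) K) *
        (uStar σ (c : Matrix (Fin n) (Fin n) K) * c) * g) * (c⁻¹ : GL (Fin n) K) := by simp only [mul_assoc]
    _ = 1 := by
      rw [hc, hg, ← hc, mul_assoc, mul_assoc, Units.mul_inv, mul_one, ← uStar_mul, Units.mul_inv, uStar_one]

/-- The special unitary group inside the general linear group. -/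
def suE (h : UField σ q) : Cfsg.SU n K q ≃* G0 (GU n K q) where
  toFun g := ⟨Matrix.SpecialLinearGroup.toGL g.1,
    mem_G0.2 ⟨(mem_GU_iff_uStar h _).2 ((mem_SU_iff_uStar h _).1 g.2), g.1.2⟩⟩
  invFun g := ⟨⟨g.1, (mem_G0.1 g.2).2⟩, (mem_SU_iff_uStar h _).2 ((mem_GU_iff_uStar h _).1 g.2.1)⟩
  left_inv _ := rfl
  right_inv _ := Subtype.ext (Units.ext rfl)
  map_mul' _ _ := Subtype.ext (Units.ext rfl)

end TwM

open TwA TwM Cl Cl.Cls in
theorem isTw_psu {n q : ℕ} (hn : 2 ≤ n ∧ n ≤ 5) {K : Type} [Field K] [Fintype K]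
    (hK : Fintype.card K = q ^ 2) (hq : Odd q) :
    IsTw n (padicValNat 2 (q ^ 2 - 1)) (decide (q % 4 = 3)) (Cfsg.PSU n K q) := by
  obtain ⟨σ, h⟩ := exists_uField hK
  have h1 : q ≠ 1 := by have := h.two_le; omega
  obtain ⟨ψ, inj, hψ⟩ := exists_psi h
  have hM := three_le_val hq h1
  have he := neg_cast_eq_ee hq h1
  have hv := val_card_SU hn h hq
  generalize decide (q % 4 = 3) = b at he hv ⊢
  generalize padicValNat 2 (q ^ 2 - 1) = M at *
  have hJ : uStar σ (monM ψ (JJ n b _)) = monM ψ (JJ n b _) := by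
    rw [uStar_monM hψ]
    congr 1
    exact Mon.ext (funext fun _ => mul_zero _) (inv_eq_of_mul_eq_one_left (congrArg Mon.s (JJ_sq (N := 1))))
  obtain ⟨c, hc, hc', -⟩ := exists_uStar_mul_eq h.invol (IsUnit.of_mul_eq_one _ J_sq) hJ
  obtain ⟨c, rfl⟩ := hc
  have hqe : (q : ZMod (2 ^ M)) * ee M b = -1 := by
    rw [← neg_eq_iff_eq_neg, ← neg_mul, he, ee_mul_ee (by omega)]
  refine isTw_of hn hM (two_ne (by rw [h.card]; exact hq.pow)) inj (GU n K q) (uNormOne σ) c (suE h)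
    (fun Γ _ _ _ a a' ha ha' ⟨g, hg⟩ => ?_) (fun m hm => conj_mem h hc' ?_) hv (fun g hg => ?_)
    (fun l hl g hg => ?_) (fun l hl i hi g hg => conj_mem h hc' ?_)
    fun s hs => (h.mem_center_SU_iff hn.1).1 hs
  · obtain ⟨k, hk, hk'⟩ := exists_unitary_intertwiner h.invol (A := fun γ => (a γ : Matrix (Fin n) (Fin n) K))
      (B := fun γ => (a' γ : Matrix (Fin n) (Fin n) K)) (fun γ => (mem_GU_iff_uStar h _).1 (ha γ))
      (fun γ => (mem_GU_iff_uStar h _).1 (ha' γ)) g.isUnit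
      fun γ => by rw [← Units.val_mul, ← Units.val_mul, hg, inv_mul_cancel_right]
    obtain ⟨k, rfl⟩ : IsUnit k := IsUnit.of_mul_eq_one_right _ hk
    exact ⟨k, (mem_GU_iff_uStar h _).2 hk, fun γ => eq_mul_inv_of_mul_eq (Units.ext (hk' γ).symm)⟩
  · rw [coe_mon, uStar_monM hψ, ← map_mul, ← map_mul]
    congr 1
    refine Mon.ext (funext fun i => ?_) (Equiv.ext fun i => ?_)
    · simp only [Mon.mul_d, JJ, Pi.zero_apply, zero_add, ← pb_comm hm.1, Equiv.Perm.coe_inv,
        Equiv.symm_apply_apply, hm.2.1, ← mul_assoc, hqe]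
      ring
    · simp [JJ, ← pb_comm hm.1]
  · have := congrArg Matrix.det ((mem_GU_iff_uStar h _).1 hg)
    rw [Matrix.det_mul, det_uStar, Matrix.det_one, mul_comm] at this
    exact this
  · rw [mem_GU_iff_uStar h, hg, uStar_smul, uStar_one, smul_mul_smul_comm, mul_one, mul_comm,
      show (l : K) * σ l = 1 from hl, one_smul]
  · ext j k
    have : uStar σ (g : Matrix (Fin n) (Fin n) K) = Matrix.diagonal fun j => σ (Function.update (1 : Fin n → K) i l j) := by
      rw [hg, uStar, Matrix.diagonal_map (map_zero σ), Matrix.diagonal_transpose]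
    rw [this, hg, Matrix.mul_diagonal, Matrix.diagonal_mul, J_apply]
    split_ifs with e
    · rw [e, update_pb hi, mul_one, mul_comm]
      by_cases e' : k = i
      · rw [e', Function.update_self]; exact hl
      · simp [Function.update_of_ne e']
    · simp

end Cfsg.Agent.F5
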