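import Mathlib
import Cfsg.Agent.F5.Mo
import Cfsg.Agent.F5.Num
import Cfsg.Agent.F5.TwA

/-! The linear groups -/

set_option autoImplicit false
set_option linter.unusedSectionVars false

namespace Cfsg.Agent.F5

open Subgroup

namespace TwP

open TwA Cl

variable {n : ℕ} {K : Type} [Field K] {σ : K →+* K} {F : Type*} [Field F] {ι : F →+* K}

/-- The general linear group of the subfield. -/
def HH (n : ℕ) (ι : F →+* K) : Subgroup (GL (Fin n) K) := (Matrix.GeneralLinearGroup.map ι).range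

theorem coe_map (g : GL (Fin n) F) : ((Matrix.GeneralLinearGroup.map ι g : GL (Fin n) K) : Matrix (Fin n) (Fin n) K) =
    (g : Matrix (Fin n) (Fin n) F).map ι := rfl

theorem map_inj : Function.Injective (Matrix.GeneralLinearGroup.map ι : GL (Fin n) F → GL (Fin n) K) :=
  fun _ _ e => Units.ext (Matrix.map_injective ι.injective (congrArg Units.val e))

theorem mem_HH (hι : ∀ a : K, (∃ k, ι k = a) ↔ σ a = a) {g : GL (Fin n) K} :
    g ∈ HH n ι ↔ (g : Matrix (Fin n) (Fin n) K).map σ = g := by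
  constructor
  · rintro ⟨g, rfl⟩
    ext i j
    exact (hι _).1 ⟨_, rfl⟩
  · intro h
    choose A hA using fun i j => (hι (g i j)).2 (congrFun (congrFun h i) j)
    have e : (Matrix.of A).map ι = g := Matrix.ext hA
    refine ⟨Matrix.GeneralLinearGroup.mkOfDetNeZero (Matrix.of A) fun e' => g.det_ne_zero ?_, Units.ext e⟩
    rw [← e, ← RingHom.mapMatrix_apply, ← RingHom.map_det, e', map_zero]

theorem conj_mem (hι : ∀ a : K, (∃ k, ι k = a) ↔ σ a = a) {c g : GL (Fin n) K} {J : Matrix (Fin n) (Fin n) K}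
    (hJ : J * J = 1) (hc : (c : Matrix (Fin n) (Fin n) K).map σ = c * J)
    (hg : (g : Matrix (Fin n) (Fin n) K).map σ * J = J * g) : c * g * c⁻¹ ∈ HH n ι := by
  rw [mem_HH hι]
  have h1 : ((c * g * c⁻¹ : GL (Fin n) K) : Matrix (Fin n) (Fin n) K) * c = c * g := by
    rw [← Units.val_mul, inv_mul_cancel_right, Units.val_mul]
  generalize ((c * g * c⁻¹ : GL (Fin n) K) : Matrix (Fin n) (Fin n) K) = X at h1 ⊢
  have h2 := congrArg (fun X : Matrix (Fin n) (Fin n) K => X.map σ * J) h1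
  simp only [Matrix.map_mul, hc, mul_assoc, hJ, hg, mul_one] at h2
  rw [← mul_assoc J, hJ, one_mul, ← h1] at h2
  exact (Units.mul_left_inj c).1 h2

/-- The special linear group of the subfield. -/
noncomputable def slE (n : ℕ) (ι : F →+* K) : Matrix.SpecialLinearGroup (Fin n) F ≃* G0 (HH n ι) :=
  MulEquiv.ofBijective (((Matrix.GeneralLinearGroup.map ι).comp Matrix.SpecialLinearGroup.toGL).codRestrict
    (G0 (HH n ι)) fun g => mem_G0.2 ⟨⟨_, rfl⟩, (ι.map_det g.1).symm.trans (by rw [g.2, map_one])⟩)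
    ⟨fun _ _ e => Matrix.SpecialLinearGroup.toGL_injective (map_inj (congrArg Subtype.val e)), by
      rintro ⟨_, ⟨g, rfl⟩, h⟩
      exact ⟨⟨g, ι.injective ((ι.map_det _).trans ((congrArg Units.val h).trans (map_one ι).symm))⟩,
        Subtype.ext (Units.ext rfl)⟩⟩

/-- The units of the subfield. -/
def fixU (σ : K →+* K) : Subgroup Kˣ := (Units.map σ.toMonoidHom).eqLocus (MonoidHom.id _)

theorem mem_fixU {l : Kˣ} : l ∈ fixU σ ↔ σ l = l := Units.ext_iff

theorem ctl (twoF : (2 : F) ≠ 0) (two : (2 : K) ≠ 0) (Γ : Type) [Group Γ] [Finite Γ] (hΓ : IsPGroup 2 Γ)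
    (a a' : Γ →* GL (Fin n) K) (ha : ∀ γ, a γ ∈ HH n ι) (ha' : ∀ γ, a' γ ∈ HH n ι)
    (h : ∃ g : GL (Fin n) K, ∀ γ, a' γ = g * a γ * g⁻¹) : ∃ g ∈ HH n ι, ∀ γ, a' γ = g * a γ * g⁻¹ := by
  have k : ∀ a : Γ →* GL (Fin n) K, (∀ γ, a γ ∈ HH n ι) → ∃ d : Γ →* Matrix (Fin n) (Fin n) F,
      ∀ γ, (d γ).map ι = a γ := fun a ha =>
    ⟨(Units.coeHom _).comp ((MonoidHom.ofInjective map_inj).symm.toMonoidHom.comp (a.codRestrict _ ha)), fun γ =>
      congrArg (fun x : HH n ι => ((x : GL (Fin n) K) : Matrix (Fin n) (Fin n) K))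
        ((MonoidHom.ofInjective map_inj).apply_symm_apply ⟨a γ, ha γ⟩)⟩
  obtain ⟨d, hd⟩ := k a ha
  obtain ⟨d', hd'⟩ := k a' ha'
  obtain ⟨g, hg⟩ := h
  obtain ⟨u, hu⟩ := (conj_mp_iff ι (RingHom.id F) (card_ne hΓ two) (card_ne hΓ twoF) d d').1
    ⟨g, fun γ => by rw [hd, hd', ← Units.val_mul, ← Units.val_mul, hg, inv_mul_cancel_right]⟩
  refine ⟨_, ⟨u, rfl⟩, fun γ => eq_mul_inv_of_mul_eq (Units.ext ?_)⟩
  rw [Units.val_mul, Units.val_mul, coe_map, ← hd, ← hd', ← Matrix.map_mul, ← Matrix.map_mul]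
  exact congrArg (fun X : Matrix (Fin n) (Fin n) F => X.map ι) (hu γ).symm

theorem exists_c (h : UInvol σ) (two : (2 : K) ≠ 0) {J : Matrix (Fin n) (Fin n) K} (hJ : J * J = 1)
    (hJ' : J.map σ = J) : ∃ c : GL (Fin n) K, (c : Matrix (Fin n) (Fin n) K).map σ = c * J := by
  obtain ⟨θ, h0, hθ⟩ := h.exists_trace_zero
  have h4 : (4 * θ : K) ≠ 0 := mul_ne_zero (by rw [show (4 : K) = 2 * 2 by norm_num]; exact mul_ne_zero two two) h0
  obtain ⟨c, hc⟩ : IsUnit ((1 + θ) • (1 : Matrix (Fin n) (Fin n) K) + (1 - θ) • J) := by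
    refine IsUnit.of_mul_eq_one ((4 * θ)⁻¹ • ((1 + θ) • (1 : Matrix (Fin n) (Fin n) K) - (1 - θ) • J)) ?_
    have : ((1 + θ) • (1 : Matrix (Fin n) (Fin n) K) + (1 - θ) • J) * ((1 + θ) • 1 - (1 - θ) • J) = (4 * θ) • 1 := by
      simp only [add_mul, mul_sub, smul_mul_smul_comm, one_mul, mul_one, hJ]
      module
    rw [Matrix.mul_smul, this, smul_smul, inv_mul_cancel₀ h4, one_smul]
  refine ⟨c, ?_⟩
  rw [hc, add_mul, Matrix.smul_mul, Matrix.smul_mul, hJ, one_mul, add_comm ((1 + θ) • J),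
    Matrix.map_add _ (map_add σ), Matrix.map_smul' _ _ _ (map_mul σ), Matrix.map_smul' _ _ _ (map_mul σ), hJ',
    Matrix.map_one _ (map_zero σ) (map_one σ), map_add, map_sub, map_one, hθ, sub_neg_eq_add, ← sub_eq_add_neg]

end TwP

open TwA TwP Cl in
theorem isTw_psl {n q : ℕ} (hn : 2 ≤ n ∧ n ≤ 5) {F : Type*} [Field F] [Fintype F]
    (hF : Fintype.card F = q) (hq : Odd q) :
    IsTw n (padicValNat 2 (q ^ 2 - 1)) (decide (q % 4 = 1))
      (Matrix.ProjectiveSpecialLinearGroup (Fin n) F) := by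
  obtain ⟨p, hp⟩ := CharP.exists F
  have : Fact p.Prime := ⟨CharP.char_is_prime F p⟩
  have hF' : Nat.card F = q := by rw [Nat.card_eq_fintype_card, hF]
  obtain ⟨K, _, _, hK⟩ : ∃ (K : Type) (_ : Field K) (_ : Fintype K), Fintype.card K = q ^ 2 :=
    ⟨FiniteField.Extension F p 2, inferInstance, Fintype.ofFinite _, by
      rw [Fintype.card_eq_nat_card, FiniteField.natCard_extension, hF']⟩
  obtain ⟨σ, h⟩ := exists_uField hK
  obtain ⟨ι, hι⟩ := h.exists_embedding hF'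
  have h1 : q ≠ 1 := by have := h.two_le; omega
  obtain ⟨ψ, inj, hψ⟩ := exists_psi h
  have hM := three_le_val hq h1
  have he := cast_eq_ee hq h1
  have hv := val_card_SL hn hF hq
  generalize decide (q % 4 = 1) = b at he hv ⊢
  generalize padicValNat 2 (q ^ 2 - 1) = M at *
  have two : (2 : K) ≠ 0 := two_ne (by rw [h.card]; exact hq.pow)
  obtain ⟨c, hc⟩ := exists_c h.invol two (J_sq (ψ := ψ) (n := n) (b := b)) (by
    rw [map_monM hψ]
    congr 1
    exact Mon.ext (funext fun _ => mul_zero _) rfl)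
  have hqe : (q : ZMod (2 ^ M)) * ee M b = 1 := by rw [he, ee_mul_ee (by omega)]
  refine isTw_of hn hM two inj (HH n ι) (fixU σ) c (slE n ι) (ctl (two_ne (hF' ▸ hq)) two)
    (fun m hm => conj_mem hι J_sq hc ?_) hv (fun g hg => mem_fixU.2 ?_) (fun l hl g hg => ?_)
    (fun l hl i hi g hg => conj_mem hι J_sq hc ?_) fun s hs => ?_
  · rw [coe_mon, map_monM hψ, ← map_mul, ← map_mul]
    congr 1
    refine Mon.ext (funext fun i => ?_) (Equiv.ext fun i => pb_comm hm.1 i)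
    simp only [Mon.mul_d, JJ, Pi.zero_apply, zero_add, add_zero, hm.2.1, ← mul_assoc, hqe, one_mul]
  · exact (σ.map_det _).trans (congrArg Matrix.det ((mem_HH hι).1 hg))
  · rw [mem_HH hι, hg, Matrix.map_smul' _ _ _ (map_mul σ), Matrix.map_one _ (map_zero σ) (map_one σ), mem_fixU.1 hl]
  · ext j k
    rw [hg, Matrix.diagonal_map (map_zero σ), Matrix.mul_diagonal, Matrix.diagonal_mul, J_apply]
    split_ifs with e
    · rw [e, update_pb hi, mul_one, one_mul]
      by_cases e' : k = i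
      · rw [e', Function.update_self]; exact mem_fixU.1 hl
      · simp [Function.update_of_ne e']
    · simp
  · obtain ⟨r, -, hr⟩ := Matrix.SpecialLinearGroup.mem_center_iff.1 hs
    refine ⟨ι r, ?_⟩
    change (s : Matrix (Fin n) (Fin n) F).map ι = _
    rw [← hr, Matrix.scalar_apply, Matrix.diagonal_map (map_zero ι), Matrix.smul_one_eq_diagonal]

end Cfsg.Agent.F5
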